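import Groth.Agent.Lib.DerivedOX.RightDerived
import Groth.Agent.Lib.DerCat.KInjExists
import Groth.Agent.Lib.Modules.Stalk
import Groth.Agent.Lib.Perfect.Basic
import Groth.Agent.Lib.DerivedOX.Exists
import Groth.Prelude.Def_TwSh

/-!
# Multiplication by global functions on `D(O_X)`
-/

set_option autoImplicit false
set_option linter.unusedSectionVars false
set_option linter.style.haveILetI false

universe u

open CategoryTheory Limits AlgebraicGeometry Opposite

attribute [local instance] HasDerivedCategory.standard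

namespace Groth.Agent.Lib.RightAdjTensor.Scalar

open Groth.Agent.Lib

variable {X Y : Scheme.{u}}

lemma scalarEnd_natural {M N : X.Modules} (φ : M ⟶ N) (r : Γ(X, ⊤)) :
    φ ≫ TwSh.scalarEnd N r = TwSh.scalarEnd M r ≫ φ := by
  refine Scheme.Modules.hom_ext _ _ fun U => ?_
  ext s
  change (TwSh.scalarEnd N r).app U (φ.app U s) = φ.app U ((TwSh.scalarEnd M r).app U s)
  rw [TwSh.scalarEnd_app_apply, TwSh.scalarEnd_app_apply, Scheme.Modules.Hom.app_smul]

/-- Multiplication by `r` on complexes. -/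
noncomputable def sC (r : Γ(X, ⊤)) :
    𝟭 (CochainComplex X.Modules ℤ) ⟶ 𝟭 (CochainComplex X.Modules ℤ) where
  app K :=
    { f := fun i => TwSh.scalarEnd (K.X i) r
      comm' := fun i j _ => (scalarEnd_natural (K.d i j) r).symm }
  naturality {_ _} φ := HomologicalComplex.hom_ext _ _ fun i => scalarEnd_natural (φ.f i) r

/-- Multiplication by `r` on `D(O_X)`. -/
noncomputable def sD (r : Γ(X, ⊤)) : 𝟭 (DCoh.D X) ⟶ 𝟭 (DCoh.D X) :=
  letI : Localization.Lifting (DerivedCategory.Q (C := X.Modules))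
      (HomologicalComplex.quasiIso X.Modules (.up ℤ)) (𝟭 _ ⋙ DerivedCategory.Q) (𝟭 _) :=
    ⟨Functor.rightUnitor _ ≪≫ (Functor.leftUnitor _).symm⟩
  Localization.liftNatTrans DerivedCategory.Q (HomologicalComplex.quasiIso X.Modules (.up ℤ))
    (𝟭 _ ⋙ DerivedCategory.Q) (𝟭 _ ⋙ DerivedCategory.Q) _ _
    (Functor.whiskerRight (sC r) DerivedCategory.Q)

lemma sD_app_Q (r : Γ(X, ⊤)) (K : CochainComplex X.Modules ℤ) :
    (sD r).app (DerivedCategory.Q.obj K) = DerivedCategory.Q.map ((sC r).app K) := by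
  simp [sD, Localization.liftNatTrans_app, Localization.Lifting.iso]

lemma isIso_restrict_scalarEnd (j : Y ⟶ X) [IsOpenImmersion j] (r : Γ(X, ⊤))
    (h : j.opensRange ≤ X.basicOpen r) (M : X.Modules) :
    IsIso ((Scheme.Modules.restrictFunctor j).map (TwSh.scalarEnd M r)) := by
  refine (Modules.Stalk.isIso_iff_app_bijective _).2 fun W => ?_
  have hu : IsUnit (TwSh.resTop X (j ''ᵁ W) r) := by
    have hle : j ''ᵁ W ≤ X.basicOpen r := le_trans (j.image_le_opensRange W) h
    have h1 := (RingedSpace.isUnit_res_basicOpen X.toRingedSpace r).map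
      (X.presheaf.map (homOfLE hle).op).hom
    change IsUnit ((X.presheaf.map (homOfLE le_top).op).hom r)
    rw [show (homOfLE (le_top : j ''ᵁ W ≤ ⊤)).op =
      (homOfLE (X.basicOpen_le r)).op ≫ (homOfLE hle).op from Subsingleton.elim _ _, X.presheaf.map_comp]
    exact h1
  change Function.Bijective fun s : Γ(M, j ''ᵁ W) => TwSh.resTop X (j ''ᵁ W) r • s
  exact IsUnit.smul_bijective hu

/-- Multiplication by `r` is invertible where `r` is. -/
theorem isIso_restrictD_sD (j : Y ⟶ X) [IsOpenImmersion j] (r : Γ(X, ⊤))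
    (h : j.opensRange ≤ X.basicOpen r) (K : DCoh.D X) :
    IsIso ((DCoh.restrictD j).map ((sD r).app K)) := by
  let e := DerivedCategory.Q.objObjPreimageIso K
  refine (NatTrans.isIso_app_iff_of_iso (Functor.whiskerRight (sD r) (DCoh.restrictD j)) e).1 ?_
  change IsIso ((DCoh.restrictD j).map ((sD r).app _))
  rw [sD_app_Q]
  refine (NatIso.isIso_map_iff (Scheme.Modules.restrictFunctor j).mapDerivedCategoryFactors _).2 ?_
  change IsIso (DerivedCategory.Q.map ((Perfect.Basic.rC j).map ((sC r).app _)))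
  haveI : ∀ i, IsIso (((Perfect.Basic.rC j).map
      ((sC r).app (DerivedCategory.Q.objPreimage K))).f i) := fun i =>
    isIso_restrict_scalarEnd j r h _
  haveI := HomologicalComplex.Hom.isIso_of_components
    ((Perfect.Basic.rC j).map ((sC r).app (DerivedCategory.Q.objPreimage K)))
  infer_instance

lemma push_scalarEnd (g : X ⟶ Y) (r : Γ(Y, ⊤)) (M : X.Modules) :
    (Scheme.Modules.pushforward g).map (TwSh.scalarEnd M (g.appTop r)) =
      TwSh.scalarEnd ((Scheme.Modules.pushforward g).obj M) r := by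
  refine Scheme.Modules.hom_ext _ _ fun U => ?_
  ext s
  have key : ∀ t : Γ(M, g ⁻¹ᵁ U), TwSh.resTop X (g ⁻¹ᵁ U) (g.appTop r) • t =
      g.app U (TwSh.resTop Y U r) • t := fun t => congrArg (fun c : Γ(X, g ⁻¹ᵁ U) => c • t)
    (ConcreteCategory.congr_hom (g.naturality (homOfLE (le_top : U ≤ ⊤)).op) r).symm
  exact key s

lemma sD_app_Qh (r : Γ(X, ⊤)) (K : CochainComplex X.Modules ℤ) :
    (sD r).app (DerivedCategory.Qh.obj ((HomotopyCategory.quotient X.Modules (.up ℤ)).obj K)) =
      DerivedCategory.Qh.map ((HomotopyCategory.quotient X.Modules (.up ℤ)).map ((sC r).app K)) := by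
  let e := (DerivedCategory.quotientCompQhIso X.Modules)
  have h := (sD r).naturality (e.hom.app K)
  have h' := e.hom.naturality ((sC r).app K)
  rw [← cancel_mono (e.hom.app K)]
  refine h.symm.trans (Eq.trans ?_ h'.symm)
  exact congrArg (e.hom.app K ≫ ·) (sD_app_Q r K)

/-- `Rg_*` is linear over global functions. -/
theorem Rpush_sD (g : X ⟶ Y) [DCoh.HasRpush g] (r : Γ(Y, ⊤)) (K : DCoh.D X) :
    (DCoh.Rpush g).map ((sD (g.appTop r)).app K) = (sD r).app ((DCoh.Rpush g).obj K) := by
  obtain ⟨I, s, hI, hs⟩ := DerCat.KInjExists.hasKInjRes (DerivedCategory.Q.objPreimage K)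
  haveI := hI
  haveI := hs
  let q := HomotopyCategory.quotient X.Modules (ComplexShape.up ℤ)
  let e : DerivedCategory.Qh.obj (q.obj I) ≅ K :=
    (DerivedCategory.quotientCompQhIso X.Modules).app I ≪≫ (asIso (DerivedCategory.Q.map s)).symm ≪≫
      DerivedCategory.Q.objObjPreimageIso K
  have h1 := (sD (g.appTop r)).naturality e.hom
  have h2 := (sD r).naturality ((DCoh.Rpush g).map e.hom)
  rw [← cancel_epi ((DCoh.Rpush g).map e.hom)]
  refine ((DCoh.Rpush g).map_comp _ _).symm.trans ((congrArg _ h1).trans ?_)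
  refine ((DCoh.Rpush g).map_comp _ _).trans (Eq.trans ?_ h2.symm)
  refine congrArg (· ≫ _) ?_
  let β := (DCoh.pushKh g).totalRightDerivedUnit DerivedCategory.Qh
    (HomotopyCategory.quasiIso X.Modules (ComplexShape.up ℤ))
  haveI : IsIso (β.app (q.obj I)) :=
    DerivedOX.RightDerived.isIso_totalRightDerivedUnit_app_of_isKInjective (DCoh.pushKh g) I
  have h3 := β.naturality (q.map ((sC (g.appTop r)).app I))
  have h4 := (sD r).naturality (β.app (q.obj I))
  rw [← cancel_epi (β.app (q.obj I))]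
  refine (congrArg (fun t => β.app (q.obj I) ≫ (DCoh.Rpush g).map t) (sD_app_Qh (g.appTop r) I)).trans
    (h3.symm.trans (Eq.trans ?_ h4.symm))
  refine congrArg (· ≫ _) ?_
  let F := (Scheme.Modules.pushforward g).mapHomologicalComplex (ComplexShape.up ℤ)
  have hF : F.map ((sC (g.appTop r)).app I) = (sC r).app (F.obj I) :=
    HomologicalComplex.hom_ext _ _ fun i => push_scalarEnd g r (I.X i)
  exact (congrArg (fun t => DerivedCategory.Qh.map ((HomotopyCategory.quotient Y.Modules (ComplexShape.up ℤ)).map t)) hF).trans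
    (sD_app_Qh r (F.obj I)).symm

end Groth.Agent.Lib.RightAdjTensor.Scalar
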