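import Groth.Agent.Lib.SchColim29.CompactLocal
import Groth.Agent.Lib.SchColim29.CohPush
import Groth.Agent.Lib.Perfect.PCCoh
import Groth.Agent.Lib.Perfect.Coherent
import Groth.Agent.Lib.DerivedOX.QCohCoprod
import Groth.Agent.S1103

/-!
# Bounded above coherent complexes are compact for uniformly bounded below families
-/

set_option autoImplicit false
set_option linter.unusedSectionVars false
set_option linter.style.haveILetI false

universe u

open CategoryTheory Limits AlgebraicGeometry Pretriangulated

attribute [local instance] HasDerivedCategory.standard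

namespace Groth.Agent.Lib.RightAdjTensor.PCompact

open Groth.Agent.Lib SchColim29.CompactB DerCat.Compact CohDer

variable {X Y : Scheme.{u}}

/-- The cone of an approximation is bounded above. -/
lemma isLE_cone (T : Triangle (DCoh.D Y)) (hT : T ∈ distTriang (DCoh.D Y)) (m : ℤ)
    (h : ∀ i : ℤ, m < i → IsIso ((DerivedCategory.homologyFunctor Y.Modules i).map T.mor₁))
    (hm : Epi ((DerivedCategory.homologyFunctor Y.Modules m).map T.mor₁)) :
    T.obj₃.IsLE (m - 1) := by
  rw [DerivedCategory.isLE_iff]
  intro i hi
  let F := DerivedCategory.homologyFunctor Y.Modules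
  haveI : Epi ((F i).map T.mor₁) := by
    rcases eq_or_lt_of_le (show m ≤ i by omega) with e | e
    · subst e; exact hm
    · haveI := h i e; infer_instance
  haveI := h (i + 1) (by omega)
  refine (DerivedCategory.HomologySequence.exact₃ T hT i (i + 1) rfl).isZero_X₂ ?_ ?_
  · exact (cancel_epi ((F i).map T.mor₁)).1 (((F i).map_comp _ _).symm.trans
      (((congrArg (F i).map (comp_distTriang_mor_zero₁₂ T hT)).trans ((F i).map_zero _ _)).trans
        comp_zero.symm))
  · exact (cancel_mono ((F (i + 1)).map T.mor₁)).1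
      ((DerivedCategory.HomologySequence.δ_comp T hT i (i + 1) rfl).trans zero_comp.symm)

/-- Precomposition with a high enough approximation is bijective on maps to bounded below objects. -/
lemma precomp_bijective (T : Triangle (DCoh.D Y)) (hT : T ∈ distTriang (DCoh.D Y)) {m c : ℤ}
    (hmc : m + 1 < c) (hZ : T.obj₃.IsLE (m - 1)) (N : DCoh.D Y) [N.IsGE c] :
    Function.Bijective fun g : T.obj₂ ⟶ N => T.mor₁ ≫ g := by
  let t := DerivedCategory.TStructure.t (C := Y.Modules)
  haveI : t.IsLE T.obj₃ (m - 1) := hZ
  haveI : t.IsGE N c := ‹N.IsGE c›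
  haveI : t.IsLE T.invRotate.obj₁ m := t.isLE_shift T.obj₃ (m - 1) (-1) m
  refine ⟨fun g g' hg => ?_, fun g => ?_⟩
  · change T.mor₁ ≫ g = T.mor₁ ≫ g' at hg
    obtain ⟨k, hk⟩ := Triangle.yoneda_exact₂ T hT (g - g')
      (by rw [Preadditive.comp_sub, sub_eq_zero]; exact hg)
    rw [← sub_eq_zero, hk, t.zero k (m - 1) c (by omega), comp_zero]
  · obtain ⟨k, hk⟩ := Triangle.yoneda_exact₂ T.invRotate (inv_rot_of_distTriang _ hT) g
      (t.zero _ m c (by omega))
    exact ⟨k, hk.symm⟩

/-- Homology preserves sums indexed by lifted small types. -/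
lemma preservesColimit_homology' {I : Type u} (M : ULift.{u + 1} I → DCoh.D Y) [HasCoproduct M] (n : ℤ) :
    PreservesColimit (Discrete.functor M) (DerivedCategory.homologyFunctor Y.Modules n) := by
  haveI := DerivedOX.QCohCoprod.preservesColimit_homology (fun i : I => M ⟨i⟩) n
  let e := Discrete.equivalence (Equiv.ulift.{u + 1, u} (α := I)).symm
  haveI : PreservesColimit (e.functor ⋙ Discrete.functor M)
      (DerivedCategory.homologyFunctor Y.Modules n) :=
    preservesColimit_of_iso_diagram (K₁ := Discrete.functor fun i : I => M ⟨i⟩) _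
      (Discrete.natIso fun _ => Iso.refl _)
  let hc := (colimit.isColimit (Discrete.functor M)).whiskerEquivalence e
  exact preservesColimit_of_preserves_colimit_cocone (colimit.isColimit (Discrete.functor M))
    (IsColimit.ofWhiskerEquivalence e (isColimitOfPreserves (DerivedCategory.homologyFunctor Y.Modules n) hc))

/-- Bounded above complexes with coherent cohomology on a Noetherian scheme are compact for
uniformly bounded below families. -/
theorem cptB_of_coh [IsNoetherian Y] {E : DCoh.D Y} (hq : DCoh.IsQCohD E) (hc : DCoh.IsCohD E)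
    (b : ℤ) (hb : E.IsLE b) : CptB E := fun I M _ c hM f => by
  obtain ⟨r, hr⟩ := Groth.Agent.S1103.result Y Set.univ isClosed_univ (by simp)
  let m := c - 2
  obtain ⟨P, α, hP, -, hiso, hepi⟩ := hr m E hq
    ((Perfect.PCCoh.isPseudoCoherentD_iff_coh E hq (m - r)).2 ⟨fun i _ => hc i, b, hb⟩)
    (fun i _ => Set.subset_univ _)
  obtain ⟨Z, v, w, hT⟩ := distinguished_cocone_triangle α
  have hZ := isLE_cone _ hT m hiso hepi
  haveI : (∐ M).IsGE c := (DerivedCategory.isGE_iff _ _).2 fun n hn => by
    haveI := preservesColimit_homology' M n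
    rw [IsZero.iff_id_eq_zero]
    refine (isColimitOfPreserves (DerivedCategory.homologyFunctor Y.Modules n)
      (colimit.isColimit (Discrete.functor M))).hom_ext fun j => ?_
    exact ((DerivedCategory.isGE_iff (M j.as) c).1 (hM j.as) n hn).eq_of_src _ _
  obtain ⟨s, hs⟩ := exists_cut M (SchColim29.CompactLocal.cptB_of_isPerfect P hP I M c hM (α ≫ f))
  have h : f ≫ cut M s = f :=
    (precomp_bijective _ hT (show m + 1 < c by omega) hZ (∐ M)).1
      ((Category.assoc _ _ _).symm.trans hs)
  rw [← h]
  exact comp_cut_mem_range M f s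

/-- Direct images of perfect objects along proper maps of Noetherian schemes. -/
theorem cptB_Rpush [IsNoetherian Y] (f : X ⟶ Y) [IsProper f] [DCoh.HasRpush f]
    (hf : DCoh.RpushPreservesQCoh f) {P : DCoh.D X} (hP : DCoh.IsPerfect P) :
    CptB ((DCoh.Rpush f).obj P) := by
  haveI : CompactSpace X := QuasiCompact.compactSpace_of_compactSpace f
  haveI : IsLocallyNoetherian X := LocallyOfFiniteType.isLocallyNoetherian f
  obtain ⟨a, b, ha, hb⟩ := Perfect.Coherent.bounded_of_isPerfect hP
  haveI := ha
  haveI := hb
  have hPS : WayOut.Bounded.HasP (SchColim29.CohPush.PS f) P := fun i => by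
    have hc := Perfect.Coherent.isCohD_of_isPerfect hP i
    haveI := hc.2
    exact ⟨hc, Modules.Support.isClosed_support _, inferInstance⟩
  obtain ⟨b', hb'⟩ := SchColim29.CohPush.exists_isLE_Rpush f P hPS a b
  exact cptB_of_coh (hf P (Perfect.QCohD.isQCohD_of_isPerfect hP))
    (SchColim29.CohPush.isCohD_Rpush f P hPS a) b' hb'

end Groth.Agent.Lib.RightAdjTensor.PCompact
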