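import Groth.Agent.Lib.RightAdjTensor.Coprod
import Groth.Agent.Lib.RightAdjTensor.PCompact

/-!
# The right adjoint of a proper `Rf_*` preserves uniformly bounded below sums
-/

set_option autoImplicit false
set_option linter.unusedSectionVars false
set_option linter.style.haveILetI false

universe u

open CategoryTheory Limits AlgebraicGeometry Pretriangulated

attribute [local instance] HasDerivedCategory.standard

namespace Groth.Agent.Lib.RightAdjTensor

open Groth.Agent.Lib DerCat.FixCoprod

variable {X Y : Scheme.{u}}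

/-- Compactness for bounded below families gives finite cuts in `D_QCoh`. -/
theorem exists_cut_bdd [CompactSpace Y] [QuasiSeparatedSpace Y] {E : DCoh.DQCoh Y}
    (hE : SchColim29.CompactB.CptB E.obj) {J : Type u} (K : J → DCoh.DQCoh Y) (c : ℤ)
    (hK : ∀ j, (K j).obj.IsGE c) (g : E ⟶ ∐ K) : ∃ s : Finset J, g ≫ cut K s = g := by
  classical
  haveI := DerivedOX.CompactUnit.hasCoproduct J fun j => (K j).obj
  haveI : HasCoproduct fun j => (ObjectProperty.ι (DCoh.IsQCohD (X := Y))).obj (K j) :=
    DerivedOX.CompactUnit.hasCoproduct J fun j => (K j).obj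
  let ι := ObjectProperty.ι (DCoh.IsQCohD (X := Y))
  let θ := asIso (sigmaComparison ι K)
  let K' : J → DCoh.D Y := fun j => ι.obj (K j)
  let M : ULift.{u + 1} J → DCoh.D Y := fun i => K' i.down
  haveI := SchColim29.CompactB.hasCoproduct_ulift M
  let σ : (∐ M) ⟶ ∐ K' := Sigma.desc fun i => Sigma.ι K' i.down
  let τ : (∐ K') ⟶ ∐ M := Sigma.desc fun j => Sigma.ι M ⟨j⟩
  have hτσ : τ ≫ σ = 𝟙 _ := Sigma.hom_ext _ _ fun j => by simp [τ, σ]
  obtain ⟨s, hs⟩ := DerCat.Compact.exists_cut M
    (hE J M c (fun i => hK i.down) ((g.hom ≫ θ.inv) ≫ τ))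
  let s' : Finset J := s.image ULift.down
  have hcut : DerCat.Compact.cut M s ≫ σ = σ ≫ cut K' s' := Sigma.hom_ext _ _ fun i => by
    rw [← Category.assoc, DerCat.Compact.ι_cut]
    have hσ : Sigma.ι M i ≫ σ = Sigma.ι K' i.down := by simp [σ]
    have hmem : i.down ∈ s' ↔ i ∈ s := by
      simp only [s', Finset.mem_image]
      exact ⟨fun ⟨a, ha, e⟩ => (ULift.ext a i e) ▸ ha, fun h => ⟨i, h, rfl⟩⟩
    rw [← Category.assoc, hσ, ι_cut]
    split_ifs with h1 h2 h2
    · exact hσ
    · exact absurd (hmem.2 h1) h2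
    · exact absurd (hmem.1 h2) h1
    · exact zero_comp
  have hs' : (g.hom ≫ θ.inv) ≫ cut K' s' = g.hom ≫ θ.inv := by
    have h := congrArg (· ≫ σ) hs
    simp only [Category.assoc] at h
    rw [hcut, reassoc_of% hτσ, hτσ, Category.comp_id] at h
    simpa only [Category.assoc] using h
  refine ⟨s', ObjectProperty.hom_ext _ ?_⟩
  have key : ι.map (cut K s') = θ.inv ≫ cut K' s' ≫ θ.hom := by
    rw [Iso.eq_inv_comp]; exact map_cut_comp K ι s'
  change g.hom ≫ ι.map (cut K s') = g.hom
  rw [key, ← Category.assoc, ← Category.assoc, hs', Category.assoc, θ.inv_hom_id]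
  exact Category.comp_id _

variable (f : X ⟶ Y) [DCoh.HasRpush f] (hf : DCoh.RpushPreservesQCoh f)
  {a : DCoh.DQCoh Y ⥤ DCoh.DQCoh X} (adj : DCoh.RpushQ f hf ⊣ a)

include adj in
/-- For proper `f` to a Noetherian scheme, `a` preserves uniformly bounded below sums. -/
theorem preservesColimit_of_isGE [IsNoetherian Y] [IsProper f] {J : Type u} (K : J → DCoh.DQCoh Y)
    (c : ℤ) (hK : ∀ j, (K j).obj.IsGE c) : PreservesColimit (Discrete.functor K) a := by
  classical
  haveI : CompactSpace X := QuasiCompact.compactSpace_of_compactSpace f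
  haveI : QuasiSeparatedSpace X := quasiSeparatedSpace_of_quasiSeparated f
  haveI := additive_a f hf adj
  let κ := sigmaComparison a K
  have hpr : ∀ k, κ ≫ a.map (proj K k) = proj (fun k => a.obj (K k)) k := fun k =>
    Sigma.hom_ext _ _ fun j => by
      rw [ι_comp_sigmaComparison_assoc, ← a.map_comp, ι_proj, ι_proj]
      split_ifs with e
      · subst e; simp
      · simp
  suffices IsIso κ from PreservesCoproduct.of_iso_comparison a K
  refine isIso_of_bij_perfect κ fun P hP => ⟨fun g g' hgg => ?_, fun t => ?_⟩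
  · rw [← sub_eq_zero]
    have h0 : (g - g') ≫ κ = 0 := by rw [Preadditive.sub_comp, sub_eq_zero]; exact hgg
    generalize g - g' = g at h0 ⊢
    obtain ⟨s, hs⟩ := exists_cut hP (fun k => a.obj (K k)) g
    rw [← hs, cut_eq_sum, Preadditive.comp_sum]
    refine Finset.sum_eq_zero fun k _ => ?_
    rw [← hpr, Category.assoc, reassoc_of% h0, zero_comp]
  · obtain ⟨s, hs⟩ := exists_cut_bdd (E := (DCoh.RpushQ f hf).obj P) (PCompact.cptB_Rpush f hf hP) K c hK
      ((adj.homEquiv _ _).symm t)
    refine ⟨∑ k ∈ s, (t ≫ a.map (proj K k)) ≫ Sigma.ι (fun k => a.obj (K k)) k, ?_⟩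
    have h := congrArg (adj.homEquiv _ _) hs
    rw [adj.homEquiv_naturality_right, Equiv.apply_symm_apply, cut_eq_sum, a.map_sum,
      Preadditive.comp_sum] at h
    refine Eq.trans ?_ h
    change (∑ k ∈ s, _) ≫ κ = _
    rw [Preadditive.sum_comp]
    refine Finset.sum_congr rfl fun k _ => ?_
    rw [Category.assoc, ι_comp_sigmaComparison, Category.assoc, ← a.map_comp]

end Groth.Agent.Lib.RightAdjTensor
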