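import Groth.Agent.Lib.SchColim29.RpushPerfFlat
import Groth.Agent.Lib.H75.TorFactor.Ring
import Groth.Agent.Lib.Snapper.Twist
import Groth.Agent.Lib.ZarCoh.ProperOver
import Groth.Agent.H54.StalkPerf

/-!
# `Rf_*` of perfect objects along perfect proper morphisms of Noetherian schemes
-/

set_option autoImplicit false
set_option linter.style.haveILetI false
set_option linter.unusedSectionVars false

universe u

open CategoryTheory Limits AlgebraicGeometry HomologicalComplex

attribute [local instance] HasDerivedCategory.standard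

namespace Groth.Agent.Lib.RightAdjTensor.PerfPush

open Groth.Agent.Lib Groth.Agent.Lib.DerivedOX Groth.Agent.Lib.BettiExact Groth.Agent.Lib.SchColim29
open Groth.Agent.Lib.Modules StalkModule Groth.Agent.Lib.DR.Basic Groth.Agent.Lib.DR.FiniteComplex
open Groth.Agent.Lib.DR.TorAmp Groth.Agent.Lib.DR.BaseChange Groth.Agent.Lib.DR.Representative Groth.Agent.Lib.DR.PseudoCoherent Groth.Agent.H54.PCRestrict

variable {X S : Scheme.{u}} (f : X ⟶ S)

/-- A perfect morphism with quasi-compact source has finite tor dimension. -/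
theorem exists_torAmplitude [CompactSpace X] (hf : MoreMor.IsPerfectMor f) :
    ∃ a b : ℤ, DerSch.HasTorAmplitude f a b (DerSch.unitCx X) := by
  have key : ∀ x : X, ∃ (U : X.Opens) (d : ℕ), x ∈ U ∧ ∀ y ∈ U,
      DerSch.HasTorAmplitudeAt f (-(d : ℤ)) 0 (DerSch.unitCx X) y := by
    intro x₀
    obtain ⟨_, ⟨(V : S.Opens), (hV : IsAffineOpen V), rfl⟩, hxV₀, -⟩ :=
      S.isBasis_affineOpens.exists_subset_of_mem_open (Set.mem_univ (f x₀)) isOpen_univ
    obtain ⟨_, ⟨(U : X.Opens), (hU : IsAffineOpen U), rfl⟩, hxU₀, hUV⟩ :=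
      X.isBasis_affineOpens.exists_subset_of_mem_open (show x₀ ∈ f ⁻¹ᵁ V from hxV₀) (f ⁻¹ᵁ V).isOpen
    let _ := (f.appLE V U hUV).hom.toAlgebra
    obtain ⟨d, hd⟩ := (hf U V hU hV hUV).2
    refine ⟨U, d, hxU₀, fun x hxU => ?_⟩
    have hxV : f x ∈ V := hUV hxU
    let _ := (f.stalkMap x).hom.toAlgebra
    letI := S.presheaf.algebra_section_stalk (⟨f x, hxV⟩ : V)
    letI := X.presheaf.algebra_section_stalk (⟨x, hxU⟩ : U)
    let _ : Algebra Γ(S, V) (X.presheaf.stalk x) :=
      ((algebraMap Γ(X, U) (X.presheaf.stalk x)).comp (f.appLE V U hUV).hom).toAlgebra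
    have : IsScalarTower Γ(S, V) Γ(X, U) (X.presheaf.stalk x) := IsScalarTower.of_algebraMap_eq fun _ => rfl
    have : IsScalarTower Γ(S, V) (S.presheaf.stalk (f x)) (X.presheaf.stalk x) :=
      IsScalarTower.of_algebraMap_eq fun r => by
        show (X.presheaf.germ U x hxU).hom (f.appLE V U hUV r) = f.stalkMap x (S.presheaf.germ V (f x) hxV r)
        rw [Scheme.Hom.germ_stalkMap_apply, Scheme.Hom.appLE, CommRingCat.comp_apply,
          TopCat.Presheaf.germ_res_apply]
    have := hU.isLocalization_stalk ⟨x, hxU⟩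
    have := hV.isLocalization_stalk ⟨f x, hxV⟩
    haveI : Module.Flat Γ(X, U) (X.presheaf.stalk x) :=
      IsLocalization.flat _ (hU.primeIdealOf ⟨x, hxU⟩).asIdeal.primeCompl
    have h1 := Groth.Agent.H54.TorDimHom.hasTorDimLE_of_flat hd (X.presheaf.stalk x)
    have h2 := Groth.Agent.H54.TorDimHom.hasTorDimLE_localization
      (A' := S.presheaf.stalk (f x)) (hV.primeIdealOf ⟨f x, hxV⟩).asIdeal.primeCompl _ h1
    exact (H75.TorFactor.Ring.hasTorAmplitudeAt_unitCx_iff f x _ _).2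
      (((DR.TorDim.hasTorDimLE_iff (X.presheaf.stalk x) d).1 h2).of_iso
        ((sgl (S.presheaf.stalk (f x)) 0).mapIso
          (DR.FlatBC.resEquiv (S.presheaf.stalk (f x)) (X.presheaf.stalk x)).toModuleIso).symm)
  choose U d hxU hd using key
  obtain ⟨t, ht⟩ := isCompact_univ.elim_finite_subcover (fun x => (U x : Set X)) (fun x => (U x).2)
    fun x _ => Set.mem_iUnion.2 ⟨x, hxU x⟩
  refine ⟨-((t.sup d : ℕ) : ℤ), 0, fun x => ?_⟩
  obtain ⟨y, hy, hxy⟩ := Set.mem_iUnion₂.1 (ht (Set.mem_univ x))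
  have hle : d y ≤ t.sup d := Finset.le_sup hy
  exact (H75.TorFactor.Ring.hasTorAmplitudeAt_unitCx_iff f x _ _).2
    (((H75.TorFactor.Ring.hasTorAmplitudeAt_unitCx_iff f x _ _).1 (hd y x hxy)).mono (by omega) le_rfl)

variable [IsNoetherian S] [LocallyOfFiniteType f] [DCoh.HasRpush f]

/-- `Rf_*(G ⊗^L D)` is perfect for `D` perfect and coherent `G` of finite tor amplitude, proper support. -/
theorem isPerfect_Rpush_tensor (D : CochainComplex X.Modules ℤ) (hDk : DCoh.IsKFlat D)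
    (hD : DCoh.IsPerfect (DerivedCategory.Q.obj D)) [DCoh.HasLTensorCx D] {G : X.Modules}
    (hG : Coh.IsCoh G) {a0 b0 : ℤ} (hflat : DerSch.HasTorAmplitude f a0 b0 ((single X.Modules (ComplexShape.up ℤ) 0).obj G)) (hsupp : ClSub.IsProperOver f (CohB1.support G))
    [CompactSpace X] :
    DCoh.IsPerfect ((DCoh.Rpush f).obj ((DCoh.LTensorCx D).obj (DCoh.inD X G))) := by
  haveI : IsLocallyNoetherian X := LocallyOfFiniteType.isLocallyNoetherian f
  let K : CochainComplex X.Modules ℤ := (single X.Modules (ComplexShape.up ℤ) 0).obj G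
  haveI := LeftExists.hasLTensorCx K
  haveI := LeftExists.hasLpull (𝟙 X)
  let P := (KFlat.res X).obj K
  have hP : DCoh.IsKFlat P := KFlat.isKFlat_res K
  haveI : QuasiIso ((KFlat.aug X).app K) := KFlat.quasiIso_aug K
  let eP : DerivedCategory.Q.obj P ≅ DerivedCategory.Q.obj K :=
    asIso (DerivedCategory.Q.map ((KFlat.aug X).app K))
  let eG : DCoh.toD X K ≅ DCoh.inD X G := ((DerivedCategory.singleFunctorIsoCompQ _ 0).app G).symm
  obtain ⟨l⟩ := TorPull.nonempty_lpull_iso (𝟙 X) hP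
  let l' : (DCoh.Lpull (𝟙 X)).obj (DCoh.toD X K) ≅ DCoh.inD X G :=
    (DCoh.Lpull (𝟙 X)).mapIso eP.symm ≪≫ l ≪≫
      DerivedCategory.Q.mapIso ((NatIso.mapHomologicalComplex (Scheme.Modules.pullbackId X)
        (ComplexShape.up ℤ)).app P ≪≫ (Functor.mapHomologicalComplexIdIso _ _).app P) ≪≫ eP ≪≫ eG
  obtain ⟨a, b, hamp⟩ := PerfTensor.flatAmp_of_isPerfect hD
  let W := (DCoh.LTensorCx D).obj (DCoh.inD X G)
  have hW0 := TorPull.torAmpD_ltensor_lpull (𝟙 X) f D (TorAmpStalk.torAmp_of_flatAmp hamp) K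
    hflat
  let F := DerivedCategory.Q.objPreimage W
  let eF : DCoh.toD X F ≅ W := DerivedCategory.Q.objObjPreimageIso W
  have hF : DerSch.HasTorAmplitude (𝟙 X ≫ f) (a + a0) (b + b0) F := hW0 F ⟨eF ≪≫ (DCoh.LTensorCx D).mapIso l'.symm⟩
  rw [Category.id_comp] at hF
  haveI : (DCoh.toD X K).IsGE 0 := DerivedCategory.TStructure.t.isGE_of_iso eG.symm 0
  haveI : (DCoh.toD X K).IsLE 0 := DerivedCategory.TStructure.t.isLE_of_iso eG.symm 0
  let eH : DCoh.HD (DCoh.toD X K) 0 ≅ G :=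
    (DerivedCategory.homologyFunctorFactors X.Modules 0).app K ≪≫ singleObjHomologySelfIso _ _ _
  have hKc : DCoh.IsCohD (DCoh.toD X K) := fun i => by
    by_cases hi : i = 0
    · subst hi
      exact CohBasics.Closure.isCoh_of_iso eH.symm hG
    · rcases lt_or_gt_of_ne hi with h | h
      · exact CohPush.isCoh_of_isZero (DerivedCategory.isZero_of_isGE _ 0 i h)
      · exact CohPush.isCoh_of_isZero (DerivedCategory.isZero_of_isLE _ 0 i h)
  obtain ⟨hc, ⟨m, n, hm, hn⟩, hs⟩ := PerfTensor.tensor_perfect K 0 0 hKc hD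
  obtain ⟨t⟩ := QCohLocal.nonempty_LTensorCx_iso K hDk
  obtain ⟨s⟩ := QCohLocal.nonempty_LTensorCx_iso D hP
  obtain ⟨c⟩ := QCohLocal.nonempty_tensor_iso hDk eP
  let e : W ≅ (DCoh.LTensorCx K).obj (DerivedCategory.Q.obj D) :=
    (DCoh.LTensorCx D).mapIso (eG.symm ≪≫ eP.symm) ≪≫ s ≪≫
      DerivedCategory.Q.mapIso (TensorSymm.commCx _ _) ≪≫ c ≪≫ t.symm
  let e' := eF ≪≫ e
  haveI : (DCoh.toD X F).IsGE m := DerivedCategory.TStructure.t.isGE_of_iso e'.symm m
  haveI : (DCoh.toD X F).IsLE n := DerivedCategory.TStructure.t.isLE_of_iso e'.symm n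
  have hcF : DCoh.IsCohD (DCoh.toD X F) := fun i => CohBasics.Closure.isCoh_of_iso
    ((DerivedCategory.homologyFunctor _ i).mapIso e').symm (hc i)
  refine Perfect.Triangle.isPerfect_of_iso ((DCoh.Rpush f).mapIso eF)
    (RpushTor.isPerfect_Rpush f F m n hcF (fun i => ?_) hF)
  haveI := (hcF i).2
  refine _root_.ZarCoh.ProperOver.isProperOver_of_subset f hsupp (Modules.Support.isClosed_support _) ?_
  rw [Modules.Support.support_congr ((DerivedCategory.homologyFunctor _ i).mapIso e')]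
  intro z hz
  obtain ⟨⟨k, hk⟩, hzk⟩ := Set.mem_iUnion.1 (hs i hz)
  obtain rfl : k = 0 := le_antisymm hk.2 hk.1
  rwa [Modules.Support.support_congr eH] at hzk

/-- `Rf_*` preserves perfect objects for `f` proper and perfect with Noetherian source and target. -/
theorem isPerfect_Rpush [IsNoetherian X] [IsProper f] (hf : MoreMor.IsPerfectMor f)
    (E : DCoh.D X) (hE : DCoh.IsPerfect E) : DCoh.IsPerfect ((DCoh.Rpush f).obj E) := by
  obtain ⟨a, b, hab⟩ := exists_torAmplitude f hf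
  obtain ⟨D, hD, ⟨eD⟩⟩ := QCohLocal.exists_kflat E
  haveI := LeftExists.hasLTensorCx D
  have h := isPerfect_Rpush_tensor f D hD (Perfect.Triangle.isPerfect_of_iso eD.symm hE)
    (G := Coh.structureModule X) (Snapper.Twist.isCoh_structureModule X) hab
    (by
      haveI := (Snapper.Twist.isCoh_structureModule X).2
      exact ⟨Modules.Support.isClosed_support _, inferInstance⟩)
  obtain ⟨t⟩ := QCohLocal.nonempty_LTensorCx_iso D (BettiExact.TorProduct.isKFlat_unitCx X)
  refine Perfect.Triangle.isPerfect_of_iso ((DCoh.Rpush f).mapIso ?_) h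
  exact (DCoh.LTensorCx D).mapIso ((DerivedCategory.singleFunctorIsoCompQ X.Modules 0).app _) ≪≫ t ≪≫
    DerivedCategory.Q.mapIso (UnitTensor.unitShiftIso 0 D ≪≫
      (shiftFunctorZero' (CochainComplex X.Modules ℤ) (-0) neg_zero).app D) ≪≫ eD

end Groth.Agent.Lib.RightAdjTensor.PerfPush
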