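import Groth.Agent.Lib.ShrinkTri.QCohGen
import Groth.Agent.Lib.Gen43.Compact
import Groth.Agent.Lib.Gen43.Generator
import Groth.Agent.Lib.DerCat.FixCoprod
import Groth.Agent.Lib.Perfect.QCohD
import Groth.Prelude.Def_DDual2

/-!
# The right adjoint of `Rf_*` on `D_QCoh` preserves coproducts when `Rf_*` preserves perfect objects
-/

set_option autoImplicit false
set_option linter.unusedSectionVars false
set_option linter.style.haveILetI false

universe u

open CategoryTheory Limits AlgebraicGeometry Pretriangulated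

attribute [local instance] HasDerivedCategory.standard

namespace Groth.Agent.Lib.RightAdjTensor

open Groth.Agent.Lib DerCat.FixCoprod

variable {X Y : Scheme.{u}}

/-- Maps in `D_QCoh` bijective on morphisms out of perfect objects are isomorphisms. -/
theorem isIso_of_bij_perfect [CompactSpace X] [QuasiSeparatedSpace X] {F G : DCoh.DQCoh X}
    (φ : F ⟶ G) (key : ∀ P : DCoh.DQCoh X, DCoh.IsPerfect P.obj →
      Function.Bijective fun g : P ⟶ F => g ≫ φ) : IsIso φ := by
  have key' : ∀ P : DCoh.D X, DCoh.IsPerfect P →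
      Function.Bijective fun g : P ⟶ F.obj => g ≫ φ.hom := fun P hP => by
    have h := key ⟨P, Perfect.QCohD.isQCohD_of_isPerfect hP⟩ hP
    refine ⟨fun g g' e => congrArg (fun t => t.hom)
      (h.1 (a₁ := ObjectProperty.homMk g) (a₂ := ObjectProperty.homMk g') (ObjectProperty.hom_ext _ e)),
      fun t => ?_⟩
    obtain ⟨g, hg⟩ := h.2 (ObjectProperty.homMk t)
    exact ⟨g.hom, congrArg (fun t => t.hom) hg⟩
  suffices IsIso φ.hom from
    haveI : IsIso ((ObjectProperty.ι (DCoh.IsQCohD (X := X))).map φ) := this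
    isIso_of_reflects_iso φ (ObjectProperty.ι _)
  obtain ⟨C, g, d, hT⟩ := distinguished_cocone_triangle φ.hom
  refine (Triangle.isZero₃_iff_isIso₁ _ hT).1 ?_
  obtain ⟨P, hP, -, hgen⟩ := Gen43.Generator.exists_generator (X := X) ⊥ (by simp)
  refine hgen C (DerivedOX.TildeEquiv.isQCohD_mor₃ _ hT F.property G.property)
    (Gen43.Restrict.van_bot C) fun n ψ => ?_
  have hPn := Perfect.Triangle.isPerfect_shift hP n
  have h0 : ψ ≫ d = 0 := by
    apply (shiftFunctor (DCoh.D X) (-1 : ℤ)).map_injective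
    rw [Functor.map_zero, ← cancel_mono
      ((shiftFunctorCompIsoId (DCoh.D X) (1 : ℤ) (-1) (by omega)).hom.app F.obj), zero_comp]
    apply (key' _ (Perfect.Triangle.isPerfect_shift hPn (-1))).1
    have h31 : d ≫ φ.hom⟦(1 : ℤ)⟧' = 0 := comp_distTriang_mor_zero₃₁ _ hT
    have hn := (shiftFunctorCompIsoId (DCoh.D X) (1 : ℤ) (-1) (by omega)).hom.naturality φ.hom
    dsimp only [Functor.comp_map, Functor.id_map] at hn
    change ((shiftFunctor (DCoh.D X) (-1 : ℤ)).map (ψ ≫ d) ≫ _) ≫ φ.hom = 0 ≫ φ.hom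
    rw [zero_comp, Category.assoc, ← hn, ← Category.assoc, ← Functor.map_comp, Category.assoc, h31,
      comp_zero, Functor.map_zero, zero_comp]
  obtain ⟨χ, hχ⟩ := Triangle.coyoneda_exact₃ _ hT ψ h0
  obtain ⟨χ', hχ'⟩ := (key' _ hPn).2 χ
  have h12 : φ.hom ≫ g = 0 := comp_distTriang_mor_zero₁₂ _ hT
  change χ' ≫ φ.hom = χ at hχ'
  rw [hχ, ← hχ']
  change (χ' ≫ φ.hom) ≫ g = 0
  rw [Category.assoc, h12, comp_zero]

/-- Maps from a perfect object to a direct sum in `D_QCoh` factor through a finite part. -/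
theorem exists_cut [CompactSpace X] [QuasiSeparatedSpace X] {P : DCoh.DQCoh X}
    (hP : DCoh.IsPerfect P.obj) {J : Type u} (K : J → DCoh.DQCoh X) (g : P ⟶ ∐ K) :
    ∃ s : Finset J, g ≫ cut K s = g := by
  haveI := DerivedOX.CompactUnit.hasCoproduct J fun j => (K j).obj
  haveI : HasCoproduct fun j => (ObjectProperty.ι (DCoh.IsQCohD (X := X))).obj (K j) :=
    DerivedOX.CompactUnit.hasCoproduct J fun j => (K j).obj
  let ι := ObjectProperty.ι (DCoh.IsQCohD (X := X))
  let θ := asIso (sigmaComparison ι K)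
  obtain ⟨s, hs⟩ := Gen43.Compact.goodP X _ hP J (fun j => ι.obj (K j))
    (fun j => (K j).property) (g.hom ≫ θ.inv)
  refine ⟨s, ObjectProperty.hom_ext _ ?_⟩
  have key : ι.map (cut K s) = θ.inv ≫ cut (fun j => ι.obj (K j)) s ≫ θ.hom := by
    rw [Iso.eq_inv_comp]; exact map_cut_comp K ι s
  change g.hom ≫ ι.map (cut K s) = g.hom
  rw [key, ← Category.assoc, ← Category.assoc, hs, Category.assoc, θ.inv_hom_id]
  exact Category.comp_id _

section

variable (f : X ⟶ Y) [DCoh.HasRpush f] (hf : DCoh.RpushPreservesQCoh f)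
  {a : DCoh.DQCoh Y ⥤ DCoh.DQCoh X} (adj : DCoh.RpushQ f hf ⊣ a)

include adj in
lemma additive_a : a.Additive := adj.right_adjoint_additive

include adj in
/-- If `Rf_*` preserves perfect objects, its right adjoint preserves coproducts. -/
theorem preservesColimitsOfShape_of_isPerfect [CompactSpace X] [QuasiSeparatedSpace X]
    [CompactSpace Y] [QuasiSeparatedSpace Y]
    (hp : ∀ P : DCoh.D X, DCoh.IsPerfect P → DCoh.IsPerfect ((DCoh.Rpush f).obj P)) (J : Type u) :
    PreservesColimitsOfShape (Discrete J) a := by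
  classical
  haveI := additive_a f hf adj
  suffices h : ∀ K : J → DCoh.DQCoh Y, PreservesColimit (Discrete.functor K) a from
    ⟨fun {K} => haveI := h (K.obj ∘ Discrete.mk)
      preservesColimit_of_iso_diagram a Discrete.natIsoFunctor.symm⟩
  intro K
  let κ := sigmaComparison a K
  have hpr : ∀ k, κ ≫ a.map (proj K k) = proj (fun k => a.obj (K k)) k := fun k =>
    Sigma.hom_ext _ _ fun j => by
      rw [ι_comp_sigmaComparison_assoc, ← a.map_comp, ι_proj, ι_proj]
      split_ifs with e
      · subst e; simp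
      · simp
  suffices IsIso κ from PreservesCoproduct.of_iso_comparison a K
  refine isIso_of_bij_perfect κ fun P hP => ⟨fun g g' hgg => ?_, fun t => ?_⟩
  · rw [← sub_eq_zero]
    have h0 : (g - g') ≫ κ = 0 := by rw [Preadditive.sub_comp, sub_eq_zero]; exact hgg
    generalize g - g' = g at h0 ⊢
    obtain ⟨s, hs⟩ := exists_cut hP (fun k => a.obj (K k)) g
    rw [← hs, cut_eq_sum, Preadditive.comp_sum]
    refine Finset.sum_eq_zero fun k _ => ?_
    rw [← hpr, Category.assoc, reassoc_of% h0, zero_comp]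
  · obtain ⟨s, hs⟩ := exists_cut (P := (DCoh.RpushQ f hf).obj P) (hp _ hP) K
      ((adj.homEquiv _ _).symm t)
    refine ⟨∑ k ∈ s, (t ≫ a.map (proj K k)) ≫ Sigma.ι (fun k => a.obj (K k)) k, ?_⟩
    have h := congrArg (adj.homEquiv _ _) hs
    rw [adj.homEquiv_naturality_right, Equiv.apply_symm_apply, cut_eq_sum, a.map_sum,
      Preadditive.comp_sum] at h
    refine Eq.trans ?_ h
    change (∑ k ∈ s, _) ≫ κ = _
    rw [Preadditive.sum_comp]
    refine Finset.sum_congr rfl fun k _ => ?_
    rw [Category.assoc, ι_comp_sigmaComparison, Category.assoc, ← a.map_comp]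

end

end Groth.Agent.Lib.RightAdjTensor
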