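import Groth.Agent.Lib.DerivedOX.ProjectionQCoh
import Groth.Agent.Lib.DerivedOX.AffinePush
import Groth.Agent.Lib.DerivedOX.UnitCx
import Groth.Agent.Lib.DerivedOX.QCohLocal
import Groth.Agent.Lib.DerivedOX.DualCompare
import Groth.Agent.Lib.DerivedOX.DualFree
import Groth.Agent.Lib.Gen43.Affine
import Groth.Agent.Lib.Snapper.Twist
import Groth.Agent.Lib.SchColim29.RHomLocal
import Groth.Agent.Lib.RightAdjTensor.PCompact
import Groth.Agent.Lib.RightAdjTensor.Coprod
import Groth.Agent.Lib.RightAdjTensor.Trace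
import Groth.Prelude.Def_Dual3

/-!
# Duality for a finite morphism: `Rf_* a ≅ RHom(f_*O, -)` on bounded below objects
-/

set_option autoImplicit false
set_option linter.unusedSectionVars false
set_option linter.style.haveILetI false

universe u

open CategoryTheory Limits AlgebraicGeometry Pretriangulated

attribute [local instance] HasDerivedCategory.standard

namespace Groth.Agent.Lib.RightAdjTensor.Finite

open Groth.Agent.Lib DerivedOX

variable {Y X : Scheme.{u}} (f : Y ⟶ X)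

/-- `- ⊗^L I ≅ id` for a resolution `I` of `O`. -/
theorem nonempty_tensorUnit (I : CochainComplex Y.Modules ℤ) (i : DualFree.one Y ⟶ I) [QuasiIso i]
    [DCoh.HasLTensorCx I] : Nonempty (DCoh.LTensorCx I ≅ 𝟭 (DCoh.D Y)) := by
  have hflat : DCoh.IsKFlat (DualFree.one Y) := GammaAcyclic.isKFlat_single (fun x =>
    Module.Flat.of_linearEquiv (BettiExact.TorComp.stalkUnitEquiv Y x)) 0
  obtain ⟨θ⟩ := BettiExact.LTensorTri.nonempty_iso_tensorCxQ I i hflat
  letI : Localization.Lifting DerivedCategory.Q (HomologicalComplex.quasiIso Y.Modules (.up ℤ))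
      (DerivedCategory.Q ⋙ DCoh.LTensorCx I) (DCoh.LTensorCx I) := ⟨Iso.refl _⟩
  letI : Localization.Lifting DerivedCategory.Q (HomologicalComplex.quasiIso Y.Modules (.up ℤ))
      DerivedCategory.Q (𝟭 (DCoh.D Y)) := ⟨Functor.rightUnitor _⟩
  exact ⟨Localization.liftNatIso DerivedCategory.Q (HomologicalComplex.quasiIso Y.Modules (.up ℤ))
    (DerivedCategory.Q ⋙ DCoh.LTensorCx I) DerivedCategory.Q _ _
    (θ ≪≫ (Functor.isoWhiskerRight DualFree.unitIso DerivedCategory.Q).symm ≪≫ Functor.leftUnitor _)⟩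

/-- Projection formula `Rf_*Lf^*M ≅ M ⊗ f_*O` for an affine morphism. -/
theorem exists_projIso [IsNoetherian X] [IsNoetherian Y] [IsFinite f] [DCoh.HasRpush f]
    [DCoh.HasLpull f] (hf : DCoh.RpushPreservesQCoh f) (E : CochainComplex X.Modules ℤ)
    [DCoh.HasLTensorCx E]
    (hE : DCoh.toD X E ≅ DCoh.inD X ((Scheme.Modules.pushforward f).obj (Coh.structureModule Y))) :
    DCoh.IsCohD (DCoh.toD X E) ∧ (∃ b, (DCoh.toD X E).IsLE b) ∧
    Nonempty (ObjectProperty.ι (DCoh.IsQCohD (X := X)) ⋙ DCoh.LTensorCx E ≅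
      ObjectProperty.ι _ ⋙ DCoh.Lpull f ⋙ DCoh.Rpush f) := by
  let O₁ : CochainComplex Y.Modules ℤ := DualFree.one Y
  obtain ⟨I, i, hI, hi⟩ := DerCat.KInjExists.hasKInjRes O₁
  haveI := hI
  haveI := hi
  have hO : Coh.IsCoh (Coh.structureModule Y) := Snapper.Twist.isCoh_structureModule Y
  haveI := hO.2
  have hterms : ∀ n, (WayOut.Scheme.qc Y) (O₁.X n) := fun n => by
    by_cases hn : n = 0
    · subst hn
      exact (WayOut.Scheme.qc Y).prop_of_iso
        (HomologicalComplex.singleObjXSelf (ComplexShape.up ℤ) 0 _).symm hO.1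
    · exact RpushQCoh.qc_of_isZero (HomologicalComplex.isZero_single_obj_X (ComplexShape.up ℤ) 0 _ n hn)
  let c := (GammaAcyclic.pushC f).map i
  haveI : QuasiIso c := AffinePush.quasiIso_push f i hterms
  let B := (KFlat.res X).obj ((GammaAcyclic.pushC f).obj I)
  let g : B ⟶ (GammaAcyclic.pushC f).obj I := (KFlat.aug X).app _
  haveI : QuasiIso g := KFlat.quasiIso_aug _
  haveI := LeftExists.hasLTensorCx B
  haveI := LeftExists.hasLTensorCx I
  haveI : IsIso (DerivedCategory.Q.map i) := (DerivedCategory.isIso_Q_map_iff_quasiIso _ _).2 hi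
  haveI : IsIso (DerivedCategory.Q.map c) :=
    (DerivedCategory.isIso_Q_map_iff_quasiIso _ _).2 inferInstance
  haveI : IsIso (DerivedCategory.Q.map g) :=
    (DerivedCategory.isIso_Q_map_iff_quasiIso _ _).2 inferInstance
  haveI := UnitCx.isIso_unitCx_of_isKInjective f I
  -- `Q B ≅ Q E`
  let eO : DerivedCategory.Q.obj O₁ ≅ DCoh.inD Y (Coh.structureModule Y) :=
    ((DerivedCategory.singleFunctorIsoCompQ Y.Modules 0).app _).symm
  let eI : DerivedCategory.Q.obj I ≅ DCoh.inD Y (Coh.structureModule Y) :=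
    (asIso (DerivedCategory.Q.map i)).symm ≪≫ eO
  let eBE : DerivedCategory.Q.obj B ≅ DCoh.toD X E :=
    asIso (DerivedCategory.Q.map g) ≪≫ (asIso (DerivedCategory.Q.map c)).symm ≪≫
      DerivedCategory.Q.mapIso ((HomologicalComplex.singleMapHomologicalComplex
        (Scheme.Modules.pushforward f) (ComplexShape.up ℤ) 0).app _) ≪≫
      ((DerivedCategory.singleFunctorIsoCompQ X.Modules 0).app _).symm ≪≫ hE.symm
  let eR : DCoh.toD X E ≅ (DCoh.Rpush f).obj (DCoh.inD Y (Coh.structureModule Y)) :=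
    eBE.symm ≪≫ asIso (DerivedCategory.Q.map g) ≪≫ asIso ((UnitCx.unitCx f).app I) ≪≫
      (DCoh.Rpush f).mapIso eI
  -- finiteness
  haveI h0ge : (DCoh.inD Y (Coh.structureModule Y)).IsGE 0 := inferInstance
  haveI h0le : (DCoh.inD Y (Coh.structureModule Y)).IsLE 0 := inferInstance
  have hPS : WayOut.Bounded.HasP (SchColim29.CohPush.PS f) (DCoh.inD Y (Coh.structureModule Y)) :=
    fun n => by
      by_cases hn : n = 0
      · subst hn
        exact (SchColim29.CohPush.PS f).prop_of_iso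
          ((DerivedCategory.singleFunctorCompHomologyFunctorIso _ 0).app _).symm
          (show SchColim29.CohPush.PS f (Coh.structureModule Y) from ⟨hO, Modules.Support.isClosed_support _, inferInstance⟩)
      · have hz : IsZero ((DerivedCategory.homologyFunctor Y.Modules n).obj
            (DCoh.inD Y (Coh.structureModule Y))) := by
          rcases lt_or_gt_of_ne hn with h | h
          · exact (DerivedCategory.isGE_iff _ 0).1 h0ge n h
          · exact (DerivedCategory.isLE_iff _ 0).1 h0le n h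
        exact (SchColim29.CohPush.PS f).prop_of_isZero hz
  refine ⟨fun n => CohBasics.Closure.isCoh_of_iso
    ((DerivedCategory.homologyFunctor X.Modules n).mapIso eR).symm
      (SchColim29.CohPush.isCohD_Rpush f _ hPS 0 n), ?_, ?_⟩
  · obtain ⟨b, hb⟩ := SchColim29.CohPush.exists_isLE_Rpush f _ hPS 0 0
    exact ⟨b, (DerivedCategory.isLE_iff _ _).2 fun n hn => ((DerivedCategory.isLE_iff _ _).1 hb n hn).of_iso
      ((DerivedCategory.homologyFunctor X.Modules n).mapIso eR)⟩
  -- `- ⊗ E ≅ - ⊗ B`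
  obtain ⟨J, j, hJ, hj⟩ := DerCat.KInjExists.hasKInjRes B
  haveI := hJ
  haveI := hj
  haveI := LeftExists.hasLTensorCx J
  haveI : IsIso (DerivedCategory.Q.map j) := (DerivedCategory.isIso_Q_map_iff_quasiIso _ _).2 hj
  obtain ⟨t, ht⟩ := (DualCompare.Q_map_bijective_aux (T := E) (J := J)).1
    (eBE.inv ≫ DerivedCategory.Q.map j)
  haveI : QuasiIso t := (DerivedCategory.isIso_Q_map_iff_quasiIso _ _).1 (by rw [ht]; infer_instance)
  obtain ⟨θ₁⟩ := Trace.nonempty_LTensorCx_congr t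
  obtain ⟨θ₂⟩ := Trace.nonempty_LTensorCx_congr j
  -- `- ⊗ I ≅ 𝟙`
  have hIq : DCoh.IsQCohD (DerivedCategory.Q.obj I) :=
    (DCoh.IsQCohD (X := Y)).prop_of_iso eI.symm (Perfect.QCohD.isQCohD_of_isPerfect (Gen43.Affine.isPerfect_oneD' Y))
  haveI := LeftExists.hasLTensorCx (DerSch.unitCx Y)
  let ι := ObjectProperty.ι (DCoh.IsQCohD (X := X))
  haveI : IsIso (Functor.whiskerLeft ι (ProjectionMap.projMap f g)) := by
    haveI : ∀ K, IsIso ((Functor.whiskerLeft ι (ProjectionMap.projMap f g)).app K) := fun K =>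
      ProjectionQCoh.isIso_projMap_of_isQCohD hIq K.property
    exact NatIso.isIso_of_isIso_app _
  obtain ⟨θ₃⟩ := nonempty_tensorUnit I i
  exact ⟨Functor.isoWhiskerLeft ι (θ₁ ≪≫ θ₂.symm) ≪≫
    asIso (Functor.whiskerLeft ι (ProjectionMap.projMap f g)) ≪≫
    Functor.isoWhiskerLeft ι (Functor.isoWhiskerLeft (DCoh.Lpull f)
      (Functor.isoWhiskerRight θ₃ (DCoh.Rpush f) ≪≫ Functor.leftUnitor _))⟩

variable [IsNoetherian X] [IsNoetherian Y] [DCoh.HasRpush f]

/-- The natural bijection behind the duality for a finite morphism. -/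
theorem nonempty_iso [IsFinite f] (hf : DCoh.RpushPreservesQCoh f) {a : DCoh.DQCoh X ⥤ DCoh.DQCoh Y}
    (adj : DCoh.RpushQ f hf ⊣ a) (E : CochainComplex X.Modules ℤ)
    (hE : Nonempty (DCoh.toD X E ≅ DCoh.inD X ((Scheme.Modules.pushforward f).obj (Coh.structureModule Y))))
    [DCoh.HasLTensorCx E] [DCoh.HasRSheafHom E] :
    Nonempty (Dual3.bddι X ⋙ a ⋙ DCoh.RpushQ f hf ⋙ ObjectProperty.ι _ ≅
      Dual3.bddι X ⋙ ObjectProperty.ι _ ⋙ DCoh.RSheafHom E) := by
  haveI := LeftExists.hasLpull f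
  obtain ⟨hc, ⟨b, hb⟩, ⟨π⟩⟩ := exists_projIso f hf E hE.some
  have hq : DCoh.IsQCohD (DCoh.toD X E) := fun n => (hc n).1
  let hL : Dual3.LpullPreservesQCoh f := fun _ hK => QCohLocal.isQCohD_Lpull f hK
  let adjP : Dual3.LpullQ f hL ⊣ DCoh.RpushQ f hf :=
    (PullPushAdj.derivedAdjunction f).restrictFullyFaithful
      (ObjectProperty.fullyFaithfulι _) (ObjectProperty.fullyFaithfulι _) (Iso.refl _) (Iso.refl _)
  let A := adjP.comp adj
  let H := DCoh.RSheafHomAdj E
  have hT : ∀ K : (Dual3.IsBddBelowQ X).FullSubcategory,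
      DCoh.IsQCohD ((DCoh.RSheafHom E).obj K.obj.obj) := fun K n => by
    obtain ⟨c, hc'⟩ := K.property
    haveI := hc'
    exact SchColim29.RHomLocal.isQCoh_HD E K.obj.obj K.obj.property c (c - n - 1)
      ((Perfect.PCCoh.isPseudoCoherentD_iff_coh _ hq _).2 ⟨fun i _ => hc i, b, hb⟩) n (by omega)
  let R1 := a ⋙ DCoh.RpushQ f hf
  let φ : ∀ K : (Dual3.IsBddBelowQ X).FullSubcategory,
      (R1.obj K.obj).obj ⟶ (DCoh.RSheafHom E).obj K.obj.obj := fun K =>
    H.homEquiv _ _ (π.hom.app (R1.obj K.obj) ≫ (A.counit.app K.obj).hom)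
  refine ⟨NatIso.ofComponents (fun K => @asIso _ _ _ _ (φ K) ?_) (fun {K L} u => ?_)⟩
  · let T : DCoh.DQCoh X := ⟨_, hT K⟩
    let ψ : R1.obj K.obj ⟶ T := ObjectProperty.homMk (φ K)
    suffices IsIso ψ from inferInstanceAs (IsIso ((ObjectProperty.ι (DCoh.IsQCohD (X := X))).map ψ))
    refine isIso_of_yoneda_map_bijective _ fun M => ?_
    let e₁ : (M ⟶ R1.obj K.obj) ≃ ((DCoh.Lpull f ⋙ DCoh.Rpush f).obj M.obj ⟶ K.obj.obj) :=
      (A.homEquiv M K.obj).symm.trans (ObjectProperty.fullyFaithfulι _).homEquiv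
    let e₂ : ((DCoh.Lpull f ⋙ DCoh.Rpush f).obj M.obj ⟶ K.obj.obj) ≃ (M ⟶ T) :=
      ((Iso.homCongr (π.app M).symm (Iso.refl _)).trans (H.homEquiv _ _)).trans
        ((ObjectProperty.fullyFaithfulι (DCoh.IsQCohD (X := X))).homEquiv (X := M) (Y := T)).symm
    have he : (fun g : M ⟶ R1.obj K.obj => g ≫ ψ) = e₁.trans e₂ := funext fun g => by
      apply ObjectProperty.hom_ext
      change g.hom ≫ H.homEquiv _ _ _ = H.homEquiv _ _ _
      rw [← H.homEquiv_naturality_left]
      refine congrArg _ ?_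
      change _ = π.hom.app M ≫ ((A.homEquiv M K.obj).symm g).hom ≫ 𝟙 _
      rw [Category.comp_id, A.homEquiv_counit]
      have hn := π.hom.naturality g
      dsimp at hn ⊢
      rw [reassoc_of% hn]
    rw [he]
    exact (e₁.trans e₂).bijective
  · change (R1.map u.hom).hom ≫ φ L = φ K ≫ (DCoh.RSheafHom E).map u.hom.hom
    rw [← H.homEquiv_naturality_left, ← H.homEquiv_naturality_right]
    refine congrArg _ ?_
    have hn := π.hom.naturality (R1.map u.hom)
    dsimp at hn ⊢
    rw [reassoc_of% hn, Category.assoc]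
    exact congrArg (π.hom.app _ ≫ ·) (congrArg (fun t => t.hom) (A.counit.naturality u.hom))

end Groth.Agent.Lib.RightAdjTensor.Finite
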