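import Groth.Agent.Lib.DerivedOX.ProjectionMap
import Groth.Agent.Lib.DerivedOX.RpushTriangulated
import Groth.Agent.Lib.SpecSeq.RightHom

/-!
# The unit `Q ∘ f_* ⟶ Rf_* ∘ Q` and shifts
-/

set_option autoImplicit false
set_option linter.unusedSectionVars false
set_option linter.style.haveILetI false

universe u

open CategoryTheory Limits AlgebraicGeometry HomologicalComplex

attribute [local instance] HasDerivedCategory.standard

namespace Groth.Agent.Lib.RightAdjTensor.Unit

open Groth.Agent.Lib DerivedOX PullTranspose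

variable {X Y : Scheme.{u}} (f : X ⟶ Y) [DCoh.HasRpush f]

/-- `Q ∘ f_* ⟶ Rf_* ∘ Q`. -/
noncomputable def unitI : GammaAcyclic.pushC f ⋙ DerivedCategory.Q ⟶
    DerivedCategory.Q ⋙ DCoh.Rpush f :=
  Functor.whiskerLeft (GammaAcyclic.pushC f) (DerivedCategory.quotientCompQhIso Y.Modules).inv ≫
    (Functor.associator _ _ _).inv ≫
    Functor.whiskerRight ((Scheme.Modules.pushforward f).mapHomotopyCategoryFactors (ComplexShape.up ℤ)).inv
      DerivedCategory.Qh ≫
    (Functor.associator _ _ _).hom ≫
    Functor.whiskerLeft (HomotopyCategory.quotient X.Modules (.up ℤ))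
      (RightDerived.derivedUnit (DCoh.pushKh f) ≫
        Functor.whiskerLeft DerivedCategory.Qh (RightDerived.totalRightDerivedIso (DCoh.pushKh f)).hom) ≫
    (Functor.associator _ _ _).inv ≫
    Functor.whiskerRight (DerivedCategory.quotientCompQhIso X.Modules).hom (DCoh.Rpush f)

instance commShift_derivedUnit :
    NatTrans.CommShift (RightDerived.derivedUnit (DCoh.pushKh f)) ℤ := by
  unfold RightDerived.derivedUnit
  infer_instance

instance commShift_totalRightDerivedIso :
    NatTrans.CommShift (RightDerived.totalRightDerivedIso (DCoh.pushKh f)).hom ℤ :=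
  Functor.CommShift.ofIso_compatibility (RightDerived.totalRightDerivedIso (DCoh.pushKh f)) ℤ

instance commShift_unitI : NatTrans.CommShift (unitI f) ℤ := by
  unfold unitI
  infer_instance

lemma unitI_app (K : CochainComplex X.Modules ℤ) :
    (unitI f).app K = (DerivedCategory.quotientCompQhIso Y.Modules).inv.app _ ≫
      DerivedCategory.Qh.map
        (((Scheme.Modules.pushforward f).mapHomotopyCategoryFactors (ComplexShape.up ℤ)).inv.app K) ≫
      ((DCoh.pushKh f).totalRightDerivedUnit DerivedCategory.Qh
        (HomotopyCategory.quasiIso X.Modules (ComplexShape.up ℤ))).app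
          ((HomotopyCategory.quotient X.Modules (.up ℤ)).obj K) ≫
      (DCoh.Rpush f).map ((DerivedCategory.quotientCompQhIso X.Modules).hom.app K) := by
  simp only [unitI, NatTrans.comp_app, Functor.whiskerLeft_app, Functor.whiskerRight_app,
    Functor.associator_hom_app, Functor.associator_inv_app, Category.assoc,
    RightDerived.derivedUnit_comp_totalRightDerivedIso_hom_assoc]
  dsimp only [Functor.comp_obj]
  simp only [Category.id_comp, Category.comp_id]

lemma isIso_unitI (I : CochainComplex X.Modules ℤ) [I.IsKInjective] : IsIso ((unitI f).app I) := by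
  haveI := RightDerived.isIso_totalRightDerivedUnit_app_of_isKInjective (DCoh.pushKh f) I
  rw [unitI_app]
  infer_instance

/-- The transpose of `Lf^*K ⟶ f^*K ⟶ I`. -/
theorem homEquiv_counitCx [DCoh.HasLpull f] {K : CochainComplex Y.Modules ℤ}
    {I : CochainComplex X.Modules ℤ} (γ : (pullC f).obj K ⟶ I) :
    (PullPushAdj.derivedAdjunction f).homEquiv (DerivedCategory.Q.obj K) _
      ((counitCx f).app K ≫ DerivedCategory.Q.map γ) =
      DerivedCategory.Q.map ((adjCx f).homEquiv K I γ) ≫ (unitI f).app I := by
  let W₁ := HomotopyCategory.quasiIso Y.Modules (ComplexShape.up ℤ)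
  let W₂ := HomotopyCategory.quasiIso X.Modules (ComplexShape.up ℤ)
  let qY := HomotopyCategory.quotient Y.Modules (ComplexShape.up ℤ)
  let qX := HomotopyCategory.quotient X.Modules (ComplexShape.up ℤ)
  let α : DerivedCategory.Qh ⋙ DCoh.Lpull f ⟶ PullPushAdj.pullK f :=
    (PullPushAdj.pullK f).totalLeftDerivedCounit DerivedCategory.Qh W₁
  let β : DCoh.pushKh f ⟶ DerivedCategory.Qh ⋙ DCoh.Rpush f :=
    (DCoh.pushKh f).totalRightDerivedUnit DerivedCategory.Qh W₂
  let adjK := DerCat.DerAdj.adjK (Scheme.Modules.pullbackPushforwardAdjunction f) (ComplexShape.up ℤ)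
  let D := PullPushAdj.derivedAdjunction f
  let γ' : ((Scheme.Modules.pullback f).mapHomotopyCategory (ComplexShape.up ℤ)).obj (qY.obj K) ⟶
      qX.obj I := ((Scheme.Modules.pullback f).mapHomotopyCategoryFactors _).hom.app K ≫ qX.map γ
  have hγ : (counitCx f).app K ≫ DerivedCategory.Q.map γ =
      (DCoh.Lpull f).map ((DerivedCategory.quotientCompQhIso Y.Modules).inv.app K) ≫
        (α.app (qY.obj K) ≫ DerivedCategory.Qh.map γ') ≫
          (DerivedCategory.quotientCompQhIso X.Modules).hom.app I := by
    have h := (DerivedCategory.quotientCompQhIso X.Modules).hom.naturality γ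
    simp only [Functor.comp_map] at h
    dsimp [counitCx, LeftExists.onCxIso, γ', α, qX, qY, W₁]
    simp only [Category.assoc, Category.id_comp, Functor.map_comp]
    erw [h]
  rw [hγ, Adjunction.homEquiv_naturality_left, Adjunction.homEquiv_naturality_right, unitI_app]
  haveI : (DCoh.Lpull f ⋙ DCoh.Rpush f).IsLeftDerivedFunctor
      ((Functor.associator DerivedCategory.Qh (DCoh.Lpull f) (DCoh.Rpush f)).inv ≫
        Functor.whiskerRight α (DCoh.Rpush f)) W₁ :=
    LeftDerived.isLeftDerivedFunctor_postcomp (PullPushAdj.isAdapted_pullK f) (DCoh.Lpull f) α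
      (DCoh.Rpush f)
  have hmid : D.homEquiv _ _ (α.app (qY.obj K) ≫ DerivedCategory.Qh.map γ') =
      DerivedCategory.Qh.map (qY.map ((adjCx f).homEquiv K I γ) ≫
        ((Scheme.Modules.pushforward f).mapHomotopyCategoryFactors (ComplexShape.up ℤ)).inv.app I) ≫
      β.app (qX.obj I) := by
    rw [Adjunction.homEquiv_unit, Functor.map_comp]
    have h1 : D.unit.app (DerivedCategory.Qh.obj (qY.obj K)) ≫ (DCoh.Rpush f).map (α.app (qY.obj K)) =
        DerivedCategory.Qh.map (adjK.unit.app (qY.obj K)) ≫ β.app _ :=
      Adjunction.derivedη_fac_app adjK W₁ α β (qY.obj K)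
    have h2 := β.naturality γ'
    rw [← Category.assoc]
    erw [h1]
    rw [Category.assoc]
    erw [← h2]
    refine (Category.assoc _ _ _).symm.trans (congrArg (· ≫ β.app (qX.obj I)) ?_)
    rw [Adjunction.homEquiv_unit]
    change DerivedCategory.Qh.map _ ≫ DerivedCategory.Qh.map
        (((Scheme.Modules.pushforward f).mapHomotopyCategory (ComplexShape.up ℤ)).map γ') = _
    refine (DerivedCategory.Qh.map_comp _ _).symm.trans (congrArg (fun t => DerivedCategory.Qh.map t) ?_)
    simp [γ']
    rfl
  refine (congrArg (fun t => (DerivedCategory.quotientCompQhIso Y.Modules).inv.app K ≫ t ≫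
    (DCoh.Rpush f).map ((DerivedCategory.quotientCompQhIso X.Modules).hom.app I)) hmid).trans ?_
  have hn := (DerivedCategory.quotientCompQhIso Y.Modules).inv.naturality ((adjCx f).homEquiv K I γ)
  rw [Functor.map_comp, Category.assoc, Category.assoc]
  exact ((reassoc_of% hn) _).symm

end Groth.Agent.Lib.RightAdjTensor.Unit
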