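import Groth.Agent.Lib.DerivedOX.ProjectionMap
import Groth.Agent.Lib.DerivedOX.DualFree
import Groth.Agent.Lib.DerivedOX.TensorQis
import Groth.Agent.Lib.DerivedOX.LeftExists
import Groth.Agent.Lib.BettiExact.LTensorTri
import Groth.Agent.Lib.BettiExact.TorProduct

/-!
# The natural map `- ⊗^L B ⟶ 𝟭` attached to a map `B ⟶ J ≅ 𝒪`
-/

set_option autoImplicit false
set_option linter.unusedSectionVars false
set_option linter.style.haveILetI false

universe u

open CategoryTheory Limits AlgebraicGeometry HomologicalComplex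

attribute [local instance] HasDerivedCategory.standard

namespace Groth.Agent.Lib.RightAdjTensor.Trace

open Groth.Agent.Lib DerivedOX UnitTensor ProjectionMap

variable {Y : Scheme.{u}} {B J : CochainComplex Y.Modules ℤ} [DCoh.HasLTensorCx B]
  (s : one Y 0 ⟶ J) [QuasiIso s] (t : B ⟶ J)

/-- `K ↦ (K ⊗^L B ⟶ K ⊗ J)`. -/
noncomputable def num : DerivedCategory.Q ⋙ DCoh.LTensorCx B ⟶ DCoh.tensorCxQ J :=
  tensorCounit B ≫ Functor.whiskerRight ((DCoh.tensorCx (X := Y)).flip.map t) DerivedCategory.Q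

/-- `K ↦ (K ⟶ K ⊗ J)`. -/
noncomputable def den : DerivedCategory.Q ⟶ DCoh.tensorCxQ J :=
  (Functor.leftUnitor _).inv ≫ Functor.whiskerRight
    (DualFree.unitIso.hom ≫ (DCoh.tensorCx (X := Y)).flip.map s) DerivedCategory.Q

lemma isIso_den {K : CochainComplex Y.Modules ℤ} (hK : DCoh.IsKFlat K) : IsIso ((den s).app K) := by
  haveI := TensorQis.quasiIso_left hK s
  haveI : IsIso (DerivedCategory.Q.map ((DCoh.tensorCx.obj K).map s)) := inferInstance
  simp only [den, NatTrans.comp_app, Functor.leftUnitor_inv_app, Category.id_comp,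
    Functor.whiskerRight_app, Functor.map_comp]
  exact @IsIso.comp_isIso _ _ _ _ _ _ _ inferInstance
    (inferInstanceAs (IsIso (DerivedCategory.Q.map ((DCoh.tensorCx.obj K).map s))))

/-- The trace on complexes. -/
noncomputable def tauPre : DerivedCategory.Q ⋙ DCoh.LTensorCx B ⟶
    DerivedCategory.Q (C := Y.Modules) :=
  haveI : IsIso (Functor.whiskerRight (KFlat.aug Y) (DerivedCategory.Q ⋙ DCoh.LTensorCx B)) := by
    haveI : ∀ K, IsIso ((Functor.whiskerRight (KFlat.aug Y)
        (DerivedCategory.Q ⋙ DCoh.LTensorCx B)).app K) := fun K => by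
      haveI : QuasiIso ((KFlat.aug Y).app K) := KFlat.quasiIso_aug K
      haveI : IsIso (DerivedCategory.Q.map ((KFlat.aug Y).app K)) := inferInstance
      exact inferInstanceAs (IsIso ((DCoh.LTensorCx B).map
        (DerivedCategory.Q.map ((KFlat.aug Y).app K))))
    exact NatIso.isIso_of_isIso_app _
  haveI : IsIso (Functor.whiskerLeft (KFlat.res Y) (den s)) := by
    haveI : ∀ K, IsIso ((Functor.whiskerLeft (KFlat.res Y) (den s)).app K) := fun K =>
      isIso_den s (KFlat.isKFlat_res K)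
    exact NatIso.isIso_of_isIso_app _
  (Functor.leftUnitor _).inv ≫
    inv (Functor.whiskerRight (KFlat.aug Y) (DerivedCategory.Q ⋙ DCoh.LTensorCx B)) ≫
    Functor.whiskerLeft (KFlat.res Y) (num t) ≫
    inv (Functor.whiskerLeft (KFlat.res Y) (den s)) ≫
    Functor.whiskerRight (KFlat.aug Y) DerivedCategory.Q ≫ (Functor.leftUnitor _).hom

theorem tauPre_comp_den (K : CochainComplex Y.Modules ℤ) :
    (tauPre s t).app K ≫ (den s).app K = (num t).app K := by
  have hl := (num t).naturality ((KFlat.aug Y).app K)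
  have hr := (den s).naturality ((KFlat.aug Y).app K)
  haveI := isIso_den s (KFlat.isKFlat_res (X := Y) K)
  haveI : QuasiIso ((KFlat.aug Y).app K) := KFlat.quasiIso_aug K
  simp only [tauPre, NatTrans.comp_app, NatIso.isIso_inv_app, Functor.whiskerLeft_app,
    Functor.whiskerRight_app, Functor.leftUnitor_inv_app, Functor.leftUnitor_hom_app,
    Category.id_comp, Category.comp_id, Category.assoc]
  erw [Category.id_comp, hr]
  rw [IsIso.inv_hom_id_assoc]
  erw [← hl]
  simp

/-- The trace `- ⊗^L B ⟶ 𝟭`. -/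
noncomputable def tau : DCoh.LTensorCx B ⟶ 𝟭 (DCoh.D Y) :=
  letI : Localization.Lifting DerivedCategory.Q (quasiIso Y.Modules (.up ℤ))
      (DerivedCategory.Q ⋙ DCoh.LTensorCx B) (DCoh.LTensorCx B) :=
    ⟨Iso.refl _⟩
  letI : Localization.Lifting DerivedCategory.Q (quasiIso Y.Modules (.up ℤ))
      (DerivedCategory.Q (C := Y.Modules)) (𝟭 _) :=
    ⟨Functor.rightUnitor _⟩
  Localization.liftNatTrans DerivedCategory.Q (quasiIso Y.Modules (.up ℤ)) _ _ _ _ (tauPre s t)

lemma tau_app (K : CochainComplex Y.Modules ℤ) :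
    (tau s t).app (DerivedCategory.Q.obj K) = (tauPre s t).app K := by
  simp [tau, Localization.liftNatTrans_app, Localization.Lifting.iso]

/-- The trace at `𝒪[-n]`: it is `t⟦-n⟧` up to fixed isomorphisms. -/
theorem exists_tau_one (n : ℤ) :
    ∃ C : DerivedCategory.Q.obj (J⟦-n⟧) ≅ DerivedCategory.Q.obj (one Y n),
      (tau s t).app (DerivedCategory.Q.obj (one Y n)) =
        (tensorCounit B).app (one Y n) ≫ DerivedCategory.Q.map (unitShiftIso n B).hom ≫
          DerivedCategory.Q.map (t⟦-n⟧') ≫ C.hom := by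
  have hflat : DCoh.IsKFlat (one Y n) := GammaAcyclic.isKFlat_single (fun x => by
    exact Module.Flat.of_linearEquiv (BettiExact.TorComp.stalkUnitEquiv Y x)) n
  haveI := isIso_den s hflat
  refine ⟨(DerivedCategory.Q.mapIso (unitShiftIso n J)).symm ≪≫ (asIso ((den s).app (one Y n))).symm, ?_⟩
  rw [tau_app, ← cancel_mono ((den s).app (one Y n)), tauPre_comp_den]
  have hn := congrArg (fun φ => DerivedCategory.Q.map φ) (unitShiftIso_natural n t)
  simp only [Functor.map_comp] at hn
  simp only [Iso.trans_hom, Iso.symm_hom, Functor.mapIso_inv, asIso_inv, Category.assoc,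
    IsIso.inv_hom_id, Category.comp_id]
  rw [← reassoc_of% hn, ← DerivedCategory.Q.map_comp, Iso.hom_inv_id, DerivedCategory.Q.map_id]
  exact (congrArg (_ ≫ ·) (Category.comp_id _)).symm

omit [QuasiIso s] in
/-- Derived tensor products with quasi-isomorphic complexes are isomorphic. -/
theorem nonempty_LTensorCx_congr {E I : CochainComplex Y.Modules ℤ} [DCoh.HasLTensorCx E]
    [DCoh.HasLTensorCx I] (e : E ⟶ I) [QuasiIso e] :
    Nonempty (DCoh.LTensorCx E ≅ DCoh.LTensorCx I) := by
  haveI : QuasiIso ((KFlat.aug Y).app E) := KFlat.quasiIso_aug E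
  obtain ⟨θ₁⟩ := BettiExact.LTensorTri.nonempty_iso_tensorCxQ E ((KFlat.aug Y).app E) (KFlat.isKFlat_res E)
  obtain ⟨θ₂⟩ := BettiExact.LTensorTri.nonempty_iso_tensorCxQ I ((KFlat.aug Y).app E ≫ e)
    (KFlat.isKFlat_res E)
  letI : Localization.Lifting DerivedCategory.Q (quasiIso Y.Modules (.up ℤ))
      (DerivedCategory.Q ⋙ DCoh.LTensorCx E) (DCoh.LTensorCx E) := ⟨Iso.refl _⟩
  letI : Localization.Lifting DerivedCategory.Q (quasiIso Y.Modules (.up ℤ))
      (DerivedCategory.Q ⋙ DCoh.LTensorCx I) (DCoh.LTensorCx I) := ⟨Iso.refl _⟩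
  exact ⟨Localization.liftNatIso DerivedCategory.Q (quasiIso Y.Modules (.up ℤ))
    (DerivedCategory.Q ⋙ DCoh.LTensorCx E) (DerivedCategory.Q ⋙ DCoh.LTensorCx I) _ _
    (θ₁ ≪≫ θ₂.symm)⟩

end Groth.Agent.Lib.RightAdjTensor.Trace
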