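import Groth.Agent.Lib.RightAdjTensor.Main
import Groth.Agent.Lib.DerivedOX.OpenSupport

/-!
# `a ≅ Lf^*(-) ⊗^L a(O)` for a coproduct-preserving right adjoint of `Rf_*`
-/

set_option autoImplicit false
set_option linter.unusedSectionVars false
set_option linter.style.haveILetI false

universe u

open CategoryTheory Limits AlgebraicGeometry Pretriangulated

attribute [local instance] HasDerivedCategory.standard

namespace Groth.Agent.Lib.RightAdjTensor.Final

open Groth.Agent.Lib DerivedOX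

/-- The main theorem. -/
theorem nonempty_iso {X Y : Scheme.{u}} [CompactSpace X] [QuasiSeparatedSpace X] [CompactSpace Y]
    [QuasiSeparatedSpace Y] (f : X ⟶ Y) [DCoh.HasRpush f] (hf : DCoh.RpushPreservesQCoh f)
    {a : DCoh.DQCoh Y ⥤ DCoh.DQCoh X} (adj : DCoh.RpushQ f hf ⊣ a)
    (hcop : ∀ J : Type u, PreservesColimitsOfShape (Discrete J) a)
    (O : DCoh.DQCoh Y) (hO : Nonempty (O.obj ≅ DCoh.inD Y (Coh.structureModule Y))) [DCoh.HasLpull f]
    (E : CochainComplex X.Modules ℤ) (hE : Nonempty (DCoh.toD X E ≅ (a.obj O).obj))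
    [DCoh.HasLTensorCx E] :
    Nonempty (a ⋙ ObjectProperty.ι _ ≅ ObjectProperty.ι _ ⋙ DCoh.Lpull f ⋙ DCoh.LTensorCx E) := by
  obtain ⟨e₀⟩ := hE
  obtain ⟨hO⟩ := hO
  haveI := additive_a f hf adj
  letI := adj.rightAdjointCommShift ℤ
  haveI := adj.commShift_of_leftAdjoint ℤ
  haveI : a.IsTriangulated := adj.isTriangulated_rightAdjoint
  obtain ⟨I, s, hI, hs⟩ := DerCat.KInjExists.hasKInjRes E
  haveI := hI
  haveI := hs
  haveI : DCoh.HasLTensorCx I := LeftExists.hasLTensorCx I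
  haveI hQs : IsIso (DerivedCategory.Q.map s) :=
    (DerivedCategory.isIso_Q_map_iff_quasiIso _ _).2 hs
  let θ : DCoh.toD X I ≅ (a.obj O).obj := (@asIso _ _ _ _ (DerivedCategory.Q.map s) hQs).symm ≪≫ e₀
  have hIq : DCoh.IsQCohD (DCoh.toD X I) :=
    (DCoh.IsQCohD (X := X)).prop_of_iso θ.symm (a.obj O).property
  obtain ⟨η, hη⟩ := Comparison.exists_comparison f hf adj hIq O hO θ
  haveI : ∀ K, IsIso (η.app K) := fun K => by
    refine DerivedOX.OpenSupport.isIso_of_restrictD (fun V : Y.affineOpens => f ⁻¹ᵁ V.1) ?_ _ fun V => ?_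
    · rw [← Scheme.Hom.preimage_iSup, iSup_affineOpens_eq_top, Scheme.Hom.preimage_top]
    have hsupp : Main.Supp f a V.1 := fun K hK => Supports.van_a f hf adj hcop K hK
    have hg := Main.good_of_affine (f := f) hcop hsupp V.2 hη K
    refine (DerivedCategory.isIso_iff (C := ((f ⁻¹ᵁ V.1 : X.Opens) : Scheme.{u}).Modules) _).2 fun p => ?_
    exact (NatTrans.isIso_app_iff_of_iso (Main.map f hIq η V.1 p)
      ((shiftFunctorZero (DCoh.DQCoh Y) ℤ).app K)).1 (hg 0 p)
  haveI : IsIso η := NatIso.isIso_of_isIso_app η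
  obtain ⟨c⟩ := Trace.nonempty_LTensorCx_congr s
  exact ⟨(asIso η).symm ≪≫
    Functor.isoWhiskerLeft (ObjectProperty.ι _) (Functor.isoWhiskerLeft (DCoh.Lpull f) c.symm)⟩

end Groth.Agent.Lib.RightAdjTensor.Final
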