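import Groth.Agent.Lib.RightAdjTensor.Unit
import Groth.Agent.Lib.DerivedOX.UnitTensor
import Groth.Agent.Lib.DerivedOX.ProjectionMap

/-!
# The projection map at shifts of `𝒪`, and shifts
-/

set_option autoImplicit false
set_option linter.unusedSectionVars false
set_option linter.style.haveILetI false

universe u

open CategoryTheory Limits AlgebraicGeometry HomologicalComplex

attribute [local instance] HasDerivedCategory.standard

namespace Groth.Agent.Lib.RightAdjTensor.Formula

open Groth.Agent.Lib DerivedOX UnitTensor PullTranspose ProjectionMap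

variable {X Y : Scheme.{u}} (f : X ⟶ Y) [DCoh.HasLpull f] [DCoh.HasRpush f]
  {B : CochainComplex Y.Modules ℤ} {I : CochainComplex X.Modules ℤ}
  (g : B ⟶ (GammaAcyclic.pushC f).obj I) [DCoh.HasLTensorCx B] [DCoh.HasLTensorCx I]

/-- At `𝒪[-n]` the projection map is `(g ≫ unit)⟦-n⟧` up to fixed isomorphisms. -/
theorem exists_projMap_one (n : ℤ) :
    ∃ i : (DCoh.LTensorCx I).obj ((DCoh.Lpull f).obj (DerivedCategory.Q.obj (one Y n))) ≅
        (DerivedCategory.Q.obj I)⟦-n⟧,
      (projMap f g).app (DerivedCategory.Q.obj (one Y n)) ≫ (DCoh.Rpush f).map i.hom ≫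
        ((DCoh.Rpush f).commShiftIso (-n)).hom.app (DerivedCategory.Q.obj I) =
      (tensorCounit B).app (one Y n) ≫ DerivedCategory.Q.map (unitShiftIso n B).hom ≫
        (DerivedCategory.Q.commShiftIso (-n)).hom.app B ≫
          (DerivedCategory.Q.map g ≫ (Unit.unitI f).app I)⟦-n⟧' := by
  have hflat : DCoh.IsKFlat (one Y n) := GammaAcyclic.isKFlat_single (fun x => by
    exact Module.Flat.of_linearEquiv (BettiExact.TorComp.stalkUnitEquiv Y x)) n
  let ψ : tC ((pullC f).obj (one Y n)) I ≅ I⟦-n⟧ :=
    (DCoh.tensorCx.mapIso (pullOneIso f n)).app I ≪≫ unitShiftIso n I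
  let γ : (pullC f).obj (tC (one Y n) B) ⟶ I⟦-n⟧ := ProjectionMap.compare f g (one Y n) ≫ ψ.hom
  -- `γ` is adjoint to a quasi-isomorphism
  have hγ : ∀ m, ((adjCx f).homEquiv _ _ γ).f m = (unitShiftIso n B).hom.f m ≫ g.f (m + -n) := by
    intro m
    let padj := Scheme.Modules.pullbackPushforwardAdjunction f
    refine (padj.homEquiv _ _).symm.injective ?_
    have e1 : (padj.homEquiv _ _).symm (((adjCx f).homEquiv _ _ γ).f m) = γ.f m := by
      rw [Equiv.symm_apply_eq]
      simp [Adjunction.homEquiv_unit, padj]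
      rfl
    rw [e1]
    refine Eq.trans ?_ (padj.homEquiv_naturality_left_symm _ _).symm
    have e2 : (padj.homEquiv _ _).symm (g.f (m + -n)) =
        (((adjCx f).homEquiv B I).symm g).f (m + -n) := by
      simp [Adjunction.homEquiv_counit, padj]
      rfl
    refine Eq.trans ?_ (congrArg (_ ≫ ·) e2.symm)
    have hn := congrArg (fun t => t.f m) (unitShiftIso_natural n (twisted f g))
    have hp := pull_unitShiftIso f n B m
    have htw : (corr f (B.X (m + -n))).hom ≫ (twisted f g).f (m + -n) =
        (((adjCx f).homEquiv B I).symm g).f (m + -n) := by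
      rw [twisted, HomologicalComplex.comp_f]
      exact Iso.hom_inv_id_assoc (corr f (B.X (m + -n))) _
    dsimp at hn
    rw [← htw]
    refine Eq.trans ?_ (Category.assoc _ _ _)
    rw [hp]
    simp only [γ, ψ, ProjectionMap.compare, Iso.trans_hom, Iso.app_hom, Functor.mapIso_hom,
      HomologicalComplex.comp_f, Category.assoc]
    refine Eq.trans (congrArg (fun t => (pullIso f (one Y n) B).hom.f m ≫ t) ?_)
      ((congrArg ((pullIso f (one Y n) B).hom.f m ≫ ·) (Category.assoc _ _ _).symm).trans
        (Category.assoc _ _ _).symm)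
    have hnat := congrArg (fun t => t.f m)
      ((DCoh.tensorCx.map (pullOneIso f n).hom).naturality (twisted f g))
    dsimp at hnat
    rw [reassoc_of% hnat]
    exact congrArg (_ ≫ ·) hn
  have hz : (adjCx f).homEquiv _ _ γ = (unitShiftIso n B).hom ≫
      (shiftFunctor (CochainComplex Y.Modules ℤ) (-n)).map g ≫
        (((Scheme.Modules.pushforward f).mapCochainComplexShiftIso (-n)).app I).inv :=
    HomologicalComplex.hom_ext _ _ fun m => by
      rw [hγ m]
      simp [Functor.mapCochainComplexShiftIso]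
      rfl
  haveI := isIso_right f (I := I) hflat
  have he : (PullPushAdj.derivedAdjunction f).homEquiv _ _
      ((left f g).app (one Y n) ≫ DerivedCategory.Q.map ψ.hom) =
      (projMap f g).app (DerivedCategory.Q.obj (one Y n)) ≫
        (DCoh.Rpush f).map ((right f).app (one Y n) ≫ DerivedCategory.Q.map ψ.hom) := by
    rw [← preMap_comp_right f g, Category.assoc, Adjunction.homEquiv_naturality_right,
      ← adjMap_app]
    rfl
  have hl : (left f g).app (one Y n) ≫ DerivedCategory.Q.map ψ.hom =
      (DCoh.Lpull f).map ((tensorCounit B).app (one Y n)) ≫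
        ((counitCx f).app (tC (one Y n) B) ≫ DerivedCategory.Q.map γ) := by
    simp [left, γ]
  rw [hl, Adjunction.homEquiv_naturality_left] at he
  replace he := (congrArg ((tensorCounit B).app (one Y n) ≫ ·)
    ((Unit.homEquiv_counitCx f γ).trans (congrArg (fun t => DerivedCategory.Q.map t ≫
      (Unit.unitI f).app (I⟦-n⟧)) hz))).symm.trans he
  haveI := isIso_right f (I := I) hflat
  refine ⟨asIso ((right f).app (one Y n)) ≪≫ DerivedCategory.Q.mapIso ψ ≪≫
    (DerivedCategory.Q.commShiftIso (-n)).app I, ?_⟩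
  have hU := NatTrans.app_shift (Unit.unitI f) (-n) I
  rw [Functor.commShiftIso_comp_hom_app, Functor.commShiftIso_comp_inv_app] at hU
  simp only [Iso.trans_hom, asIso_hom, Functor.mapIso_hom, Iso.app_hom, Functor.map_comp,
    Category.assoc]
  have hh := congrArg (fun t => t ≫ (DCoh.Rpush f).map ((DerivedCategory.Q.commShiftIso (-n)).hom.app I) ≫
    ((DCoh.Rpush f).commShiftIso (-n)).hom.app (DerivedCategory.Q.obj I)) he
  simp only [Functor.map_comp, Category.assoc, hU] at hh
  have hn : DerivedCategory.Q.map (g⟦-n⟧') ≫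
      (DerivedCategory.Q.commShiftIso (-n)).hom.app ((GammaAcyclic.pushC f).obj I) =
      (DerivedCategory.Q.commShiftIso (-n)).hom.app B ≫ (DerivedCategory.Q.map g)⟦-n⟧' :=
    (DerivedCategory.Q.commShiftIso (-n)).hom.naturality g
  refine hh.symm.trans ?_
  refine congrArg (fun t => (tensorCounit B).app (one Y n) ≫ DerivedCategory.Q.map (unitShiftIso n B).hom ≫ t) ?_
  have e1 : DerivedCategory.Q.map (((Scheme.Modules.pushforward f).mapCochainComplexShiftIso (-n)).app I).inv ≫
      DerivedCategory.Q.map (((GammaAcyclic.pushC f).commShiftIso (-n)).hom.app I) = 𝟙 _ :=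
    (DerivedCategory.Q.mapIso (((Scheme.Modules.pushforward f).mapCochainComplexShiftIso (-n)).app I)).inv_hom_id
  have e2 : ((DCoh.Rpush f).commShiftIso (-n)).inv.app (DerivedCategory.Q.obj I) ≫
      (DCoh.Rpush f).map ((DerivedCategory.Q.commShiftIso (-n)).inv.app I) ≫
      (DCoh.Rpush f).map ((DerivedCategory.Q.commShiftIso (-n)).hom.app I) ≫
      ((DCoh.Rpush f).commShiftIso (-n)).hom.app (DerivedCategory.Q.obj I) = 𝟙 _ :=
    ((DCoh.Rpush f).mapIso ((DerivedCategory.Q.commShiftIso (-n)).app I) ≪≫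
      ((DCoh.Rpush f).commShiftIso (-n)).app (DerivedCategory.Q.obj I)).inv_hom_id |> fun h =>
        (Category.assoc _ _ _).symm.trans h
  refine (congrArg (DerivedCategory.Q.map (g⟦-n⟧') ≫ ·) ((Category.assoc _ _ _).symm.trans
    ((congrArg (· ≫ _) e1).trans (Category.id_comp _)))).trans ?_
  refine (Category.assoc _ _ _).symm.trans ((congrArg (· ≫ _) hn).trans ((Category.assoc _ _ _).trans ?_))
  refine congrArg (((DerivedCategory.Q.commShiftIso (-n)).hom.app B) ≫ ((DerivedCategory.Q.map g)⟦-n⟧') ≫ ·) ?_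
  exact (congrArg (((Unit.unitI f).app I)⟦-n⟧' ≫ ·) e2).trans (Category.comp_id _)

end Groth.Agent.Lib.RightAdjTensor.Formula
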