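import Groth.Agent.Lib.RightAdjTensor.Universal
import Groth.Agent.Lib.RightAdjTensor.Trace
import Groth.Agent.Lib.RightAdjTensor.Formula
import Groth.Agent.Lib.DerivedOX.ProjectionQCoh
import Groth.Agent.Lib.DerivedOX.QCohLocal
import Groth.Agent.Lib.DerivedOX.DualCompare

/-!
# The comparison `Lf^*(-) ⊗^L a(O) ⟶ a`, invertible at the shifts of `O`
-/

set_option autoImplicit false
set_option linter.unusedSectionVars false
set_option linter.style.haveILetI false

universe u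

open CategoryTheory Limits AlgebraicGeometry HomologicalComplex

attribute [local instance] HasDerivedCategory.standard

namespace Groth.Agent.Lib.RightAdjTensor.Comparison

open Groth.Agent.Lib DerivedOX UnitTensor

variable {X Y : Scheme.{u}} [CompactSpace X] [QuasiSeparatedSpace X] [CompactSpace Y]
  [QuasiSeparatedSpace Y] (f : X ⟶ Y) [DCoh.HasRpush f] [DCoh.HasLpull f]
  (hf : DCoh.RpushPreservesQCoh f) {a : DCoh.DQCoh Y ⥤ DCoh.DQCoh X}
  (adj : DCoh.RpushQ f hf ⊣ a)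

/-- `𝒪[-n]` in `D_QCoh`. -/
theorem qc_one (n : ℤ) : DCoh.IsQCohD (DerivedCategory.Q.obj (one Y n)) := by
  let e : DerivedCategory.Q.obj (one Y n) ≅ (CompactUnit.oneD Y)⟦-n⟧ :=
    ((DerivedCategory.singleFunctorIsoCompQ Y.Modules n).app _).symm ≪≫
      (((DerivedCategory.singleFunctors Y.Modules).shiftIso (-n) n 0 (by omega)).app _).symm
  exact (DCoh.IsQCohD (X := Y)).prop_of_iso e.symm
    (CompactUnit.qcD_shift _ _ (Perfect.QCohD.isQCohD_of_isPerfect (Gen43.Affine.isPerfect_oneD' Y)))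

/-- `𝒪[-n]` as an object of `D_QCoh`. -/
noncomputable abbrev oneQ (Y : Scheme.{u}) [CompactSpace Y] [QuasiSeparatedSpace Y] (n : ℤ) :
    DCoh.DQCoh Y := ⟨DerivedCategory.Q.obj (one Y n), qc_one n⟩

variable {E : CochainComplex X.Modules ℤ} [DCoh.HasLTensorCx E] (hE : DCoh.IsQCohD (DCoh.toD X E))

/-- `K ↦ Lf^*K ⊗^L E` on `D_QCoh`. -/
noncomputable abbrev G : DCoh.DQCoh Y ⥤ DCoh.DQCoh X :=
  ObjectProperty.lift _ (ObjectProperty.ι _ ⋙ DCoh.Lpull f ⋙ DCoh.LTensorCx E) fun K =>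
    QCohLocal.isQCohD_LTensorCx E hE (QCohLocal.isQCohD_Lpull f K.property)

include adj in
/-- The comparison, invertible at every `𝒪[-n]`. -/
theorem exists_comparison (O : DCoh.DQCoh Y)
    (hO : O.obj ≅ DCoh.inD Y (Coh.structureModule Y)) [E.IsKInjective]
    (θ : DCoh.toD X E ≅ (a.obj O).obj) :
    ∃ η : G f hE ⋙ ObjectProperty.ι _ ⟶ a ⋙ ObjectProperty.ι _,
      ∀ n : ℤ, IsIso (η.app (oneQ Y n)) := by
  let B := (KFlat.res Y).obj ((GammaAcyclic.pushC f).obj E)
  let g : B ⟶ (GammaAcyclic.pushC f).obj E := (KFlat.aug Y).app _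
  haveI : QuasiIso g := KFlat.quasiIso_aug _
  haveI := LeftExists.hasLTensorCx B
  obtain ⟨J, s, hJ, hs⟩ := DerCat.KInjExists.hasKInjRes (one Y 0)
  haveI := hJ
  haveI := hs
  haveI hQs : IsIso (DerivedCategory.Q.map s) := (DerivedCategory.isIso_Q_map_iff_quasiIso _ _).2 hs
  let eJ : O.obj ≅ DerivedCategory.Q.obj J :=
    hO ≪≫ (DerivedCategory.singleFunctorIsoCompQ Y.Modules 0).app _ ≪≫
      (@asIso _ _ _ _ (DerivedCategory.Q.map s) hQs)
  let ε := (adj.counit.app O).hom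
  obtain ⟨t, ht⟩ := (DualCompare.Q_map_bijective_aux (T := B) (J := J)).1
    (DerivedCategory.Q.map g ≫ (Unit.unitI f).app E ≫ (DCoh.Rpush f).map θ.hom ≫ ε ≫ eJ.hom)
  let ι := ObjectProperty.ι (DCoh.IsQCohD (X := Y))
  haveI : QuasiCompact f := inferInstance
  haveI : IsIso (Functor.whiskerLeft ι (ProjectionMap.projMap f g)) := by
    haveI : ∀ K, IsIso ((Functor.whiskerLeft ι (ProjectionMap.projMap f g)).app K) := fun K =>
      ProjectionQCoh.isIso_projMap_of_isQCohD hE K.property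
    exact NatIso.isIso_of_isIso_app _
  let Φ : ι ⋙ DCoh.Lpull f ⋙ DCoh.LTensorCx E ⋙ DCoh.Rpush f ⟶ ι :=
    inv (Functor.whiskerLeft ι (ProjectionMap.projMap f g)) ≫
      Functor.whiskerLeft ι (Trace.tau s t) ≫ (Functor.rightUnitor _).hom
  let Ψ : G f hE ⋙ DCoh.RpushQ f hf ⟶ 𝟭 _ :=
    { app := fun K => ObjectProperty.homMk (Φ.app K)
      naturality := fun K K' φ => ObjectProperty.hom_ext _ (Φ.naturality φ) }
  let η : G f hE ⟶ a :=
    { app := fun K => adj.homEquiv _ K (Ψ.app K)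
      naturality := fun K K' φ => by
        rw [← adj.homEquiv_naturality_left, ← adj.homEquiv_naturality_right]
        exact congrArg _ (Ψ.naturality φ) }
  refine ⟨Functor.whiskerRight η _, fun n => ?_⟩
  suffices IsIso (η.app (oneQ Y n)) from
    inferInstanceAs (IsIso ((ObjectProperty.ι (DCoh.IsQCohD (X := X))).map (η.app (oneQ Y n))))
  -- the value at `𝒪[-n]`
  let R := DCoh.Rpush f
  obtain ⟨i, hi⟩ := Formula.exists_projMap_one f g n
  obtain ⟨C, hC⟩ := Trace.exists_tau_one s t n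
  let i' : (G f hE ⋙ ObjectProperty.ι _).obj (oneQ Y n) ≅ ((a.obj O).obj)⟦-n⟧ :=
    i ≪≫ (shiftFunctor (DCoh.D X) (-n)).mapIso θ
  let C' : O.obj⟦-n⟧ ≅ DerivedCategory.Q.obj (one Y n) :=
    (shiftFunctor (DCoh.D Y) (-n)).mapIso eJ ≪≫ ((DerivedCategory.Q.commShiftIso (-n)).app J).symm ≪≫ C
  have hΦ : Φ.app (oneQ Y n) = R.map i'.hom ≫ (R.commShiftIso (-n)).hom.app (a.obj O).obj ≫
      ε⟦-n⟧' ≫ C'.hom := by
    change (inv (Functor.whiskerLeft ι (ProjectionMap.projMap f g))).app (oneQ Y n) ≫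
      (Trace.tau s t).app (DerivedCategory.Q.obj (one Y n)) ≫ 𝟙 _ = _
    rw [Category.comp_id, NatIso.isIso_inv_app]
    refine (IsIso.inv_comp_eq _).2 ?_
    change _ = (ProjectionMap.projMap f g).app (DerivedCategory.Q.obj (one Y n)) ≫ _
    rw [hC]
    have hn : DerivedCategory.Q.map (t⟦-n⟧') ≫ (DerivedCategory.Q.commShiftIso (-n)).hom.app J =
        (DerivedCategory.Q.commShiftIso (-n)).hom.app B ≫ (DerivedCategory.Q.map t)⟦-n⟧' :=
      (DerivedCategory.Q.commShiftIso (-n)).hom.naturality t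
    have hR : R.map (θ.hom⟦-n⟧') ≫ (R.commShiftIso (-n)).hom.app (a.obj O).obj =
        (R.commShiftIso (-n)).hom.app (DerivedCategory.Q.obj E) ≫ (R.map θ.hom)⟦-n⟧' :=
      (R.commShiftIso (-n)).hom.naturality θ.hom
    have hC2 : C.hom = (DerivedCategory.Q.commShiftIso (-n)).hom.app J ≫
        ((DerivedCategory.Q.commShiftIso (-n)).app J).inv ≫ C.hom :=
      (Iso.hom_inv_id_assoc ((DerivedCategory.Q.commShiftIso (-n)).app J) C.hom).symm
    rw [hC2, reassoc_of% hn, ht]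
    simp only [i', C', Iso.trans_hom, Functor.mapIso_hom, Iso.symm_hom, Functor.map_comp,
      Category.assoc]
    rw [reassoc_of% hR]
    rw [reassoc_of% hi]
    simp only [Functor.map_comp, Category.assoc]
    rfl
  haveI : IsIso (η.app (oneQ Y n)) := isIso_of_yoneda_map_bijective _ fun M => by
    let F₁ := (ObjectProperty.fullyFaithfulι (DCoh.IsQCohD (X := X))).homEquiv
      (X := M) (Y := (G f hE).obj (oneQ Y n))
    let F₂ := (ObjectProperty.fullyFaithfulι (DCoh.IsQCohD (X := Y))).homEquiv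
      (X := (DCoh.RpushQ f hf).obj M) (Y := oneQ Y n)
    have h1 : Function.Bijective fun g : M.obj ⟶ ((a.obj O).obj)⟦-n⟧ =>
        (R.map g ≫ (R.commShiftIso (-n)).hom.app (a.obj O).obj ≫ ε⟦-n⟧') ≫ C'.hom :=
      (Iso.homToEquiv C').bijective.comp (Universal.bij_shift f hf adj O (-n) M.property)
    have h2 : Function.Bijective fun g : M.obj ⟶ ((G f hE).obj (oneQ Y n)).obj =>
        R.map g ≫ Φ.app (oneQ Y n) := by
      refine Universal.bij_transport (Iso.homToEquiv i'.symm) (Equiv.refl _) (fun g => ?_) h1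
      rw [hΦ]
      change _ = R.map (g ≫ i'.inv) ≫ _
      simp only [Functor.map_comp, Category.assoc, Equiv.refl_apply]
      rw [← R.map_comp_assoc i'.inv, Iso.inv_hom_id, R.map_id, Category.id_comp]
    have h3 : Function.Bijective fun g : M ⟶ (G f hE).obj (oneQ Y n) =>
        (DCoh.RpushQ f hf).map g ≫ Ψ.app (oneQ Y n) :=
      Universal.bij_transport F₁.symm F₂.symm (fun g => ObjectProperty.hom_ext _ rfl) h2
    have h4 : (fun g : M ⟶ (G f hE).obj (oneQ Y n) => g ≫ η.app (oneQ Y n)) =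
        fun g => adj.homEquiv M (oneQ Y n) ((DCoh.RpushQ f hf).map g ≫ Ψ.app (oneQ Y n)) :=
      funext fun g => (adj.homEquiv_naturality_left g _).symm
    rw [h4]
    exact (adj.homEquiv M (oneQ Y n)).bijective.comp h3
  assumption

end Groth.Agent.Lib.RightAdjTensor.Comparison
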