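import Groth.Agent.Lib.Gen43.Extend
import Groth.Agent.Lib.DerivedOX.RpushQCoh
import Groth.Agent.Lib.DerivedOX.TildeEquiv

/-!
# Objects of `D_QCoh` local to an open
-/

set_option autoImplicit false
set_option linter.unusedSectionVars false
set_option linter.style.haveILetI false

universe u

open CategoryTheory Limits AlgebraicGeometry Pretriangulated

attribute [local instance] HasDerivedCategory.standard

namespace Groth.Agent.Lib.RightAdjTensor.Loc

open Groth.Agent.Lib Gen43.Restrict DerivedOX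

variable {X : Scheme.{u}} (W : X.Opens)

/-- `B` receives no non-zero map from an object of `D_QCoh` vanishing on `W`. -/
def IsLoc (B : DCoh.D X) : Prop :=
  ∀ F : DCoh.D X, DCoh.IsQCohD F → Van W F → ∀ φ : F ⟶ B, φ = 0

variable {W}

lemma isLoc_of_iso {B B' : DCoh.D X} (e : B ≅ B') (h : IsLoc W B) : IsLoc W B' := fun F hF hW φ =>
  (cancel_mono e.inv).1 ((h F hF hW (φ ≫ e.inv)).trans zero_comp.symm)

lemma IsLoc.mono {B : DCoh.D X} (h : IsLoc W B) {W' : X.Opens} (hle : W ≤ W') : IsLoc W' B :=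
  fun F hF hW => h F hF (hW.mono hle)

lemma isLoc_shift {B : DCoh.D X} (h : IsLoc W B) (n : ℤ) : IsLoc W (B⟦n⟧) := fun F hF hW φ => by
  apply (shiftFunctor (DCoh.D X) (-n)).map_injective
  rw [Functor.map_zero, ← cancel_mono ((shiftFunctorCompIsoId (DCoh.D X) n (-n) (by omega)).hom.app B),
    zero_comp]
  exact h _ (CompactUnit.qcD_shift F (-n) hF) (hW.shift (-n)) _

lemma isLoc₃ {T : Triangle (DCoh.D X)} (hT : T ∈ distTriang _) (h₁ : IsLoc W T.obj₁)
    (h₂ : IsLoc W T.obj₂) : IsLoc W T.obj₃ := fun F hF hW φ => by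
  obtain ⟨ψ, hψ⟩ := Triangle.coyoneda_exact₃ _ hT φ (isLoc_shift h₁ 1 F hF hW _)
  rw [hψ, h₂ F hF hW ψ, zero_comp]

/-- Pushforwards from an open are local to it. -/
lemma isLoc_push {U : X.Opens} [DCoh.HasRpush U.ι] (B : DCoh.D (U : Scheme.{u})) :
    IsLoc U ((DCoh.Rpush U.ι).obj B) := fun F _ hU φ =>
  ((OpenImm.restrictPushAdj U.ι).homEquiv F B).symm.injective (hU.isZero.eq_of_src _ _)

/-- A local object vanishing on the open is zero. -/
lemma isZero_of_isLoc {B : DCoh.D X} (h : IsLoc W B) (hB : DCoh.IsQCohD B) (hW : Van W B) :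
    IsZero B :=
  (IsZero.iff_id_eq_zero _).2 (h B hB hW _)

/-- A map of local objects invertible on the open is invertible. -/
lemma isIso_of_isLoc {A B : DCoh.D X} (φ : A ⟶ B) (hA : IsLoc W A) (hB : IsLoc W B)
    (hA' : DCoh.IsQCohD A) (hB' : DCoh.IsQCohD B) [IsIso ((DCoh.restrictD W.ι).map φ)] : IsIso φ := by
  obtain ⟨C, g, d, hT⟩ := distinguished_cocone_triangle φ
  exact (Triangle.isZero₃_iff_isIso₁ _ hT).1 (isZero_of_isLoc (isLoc₃ hT hA hB)
    (TildeEquiv.isQCohD_mor₃ _ hT hA' hB') ((isIso_restrict_iff hT).1 (by assumption)))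

/-- A local object is pushed forward from the open. -/
lemma isIso_unit_of_isLoc [QuasiSeparatedSpace X] (hW : IsCompact (W : Set X)) [DCoh.HasRpush W.ι]
    {B : DCoh.D X} (h : IsLoc W B) (hB : DCoh.IsQCohD B) : IsIso (unit W.ι B) := by
  haveI := quasiCompact_ι hW
  haveI := isIso_restrict_unit W.ι B
  exact isIso_of_isLoc (W := W) _ h (isLoc_push _) hB
    (RpushQCoh.isQCohD_Rpush W.ι _ (CompactUnit.isQCohD_restrictD _ hB))

end Groth.Agent.Lib.RightAdjTensor.Loc
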