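import Groth.Agent.Lib.RightAdjTensor.Supports
import Groth.Agent.Lib.RightAdjTensor.Comparison
import Groth.Agent.Lib.DerivedOX.TensorExact
import Groth.Agent.Lib.DerivedOX.ProjectionLocal
import Groth.Agent.Lib.DerivedOX.AffineGenerate

/-!
# A coproduct-preserving right adjoint of `Rf_*` is `Lf^*(-) ⊗^L a(O)`
-/

set_option autoImplicit false
set_option linter.unusedSectionVars false
set_option linter.style.haveILetI false

universe u

open CategoryTheory Limits AlgebraicGeometry Pretriangulated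

attribute [local instance] HasDerivedCategory.standard

namespace Groth.Agent.Lib.RightAdjTensor.Main

open Groth.Agent.Lib DerivedOX Gen43.Restrict Perfect.Basic Perfect.Triangle

variable {X Y : Scheme.{u}} (f : X ⟶ Y) [DCoh.HasLpull f]
  {a : DCoh.DQCoh Y ⥤ DCoh.DQCoh X} [a.CommShift ℤ] [a.IsTriangulated]
  {E : CochainComplex X.Modules ℤ} [DCoh.HasLTensorCx E] (hE : DCoh.IsQCohD (DCoh.toD X E))
  (η : Comparison.G f hE ⋙ ObjectProperty.ι _ ⟶ a ⋙ ObjectProperty.ι _) (V : Y.Opens)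

/-- Cohomology over `f⁻¹V`. -/
noncomputable abbrev HV (p : ℤ) : DCoh.D X ⥤ ((f ⁻¹ᵁ V : X.Opens) : Scheme.{u}).Modules :=
  DCoh.restrictD (f ⁻¹ᵁ V).ι ⋙ DerivedCategory.homologyFunctor _ p

/-- The source. -/
noncomputable abbrev src (p : ℤ) :
    DCoh.DQCoh Y ⥤ ((f ⁻¹ᵁ V : X.Opens) : Scheme.{u}).Modules :=
  (Comparison.G f hE ⋙ ObjectProperty.ι _) ⋙ HV f V p

/-- The target. -/
noncomputable abbrev tgt (a : DCoh.DQCoh Y ⥤ DCoh.DQCoh X) (p : ℤ) :
    DCoh.DQCoh Y ⥤ ((f ⁻¹ᵁ V : X.Opens) : Scheme.{u}).Modules :=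
  (a ⋙ ObjectProperty.ι _) ⋙ HV f V p

/-- The comparison in cohomology over `f⁻¹V`. -/
noncomputable abbrev map (p : ℤ) : src f hE V p ⟶ tgt f V a p := Functor.whiskerRight η (HV f V p)

/-- The comparison is invertible over `f⁻¹V` at all shifts of `K`. -/
def Good (K : DCoh.DQCoh Y) : Prop := ∀ n p : ℤ, IsIso ((map f hE η V p).app (K⟦n⟧))

lemma exactOn_src (p : ℤ) : DerCat.ExactFun.ExactOn (src f hE V p) := fun T hT => by
  let T' := (DCoh.Lpull f).mapTriangle.obj ((ObjectProperty.ι (DCoh.IsQCohD (X := Y))).mapTriangle.obj T)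
  exact TensorExact.exact E (DCoh.restrictD (f ⁻¹ᵁ V).ι) T'
    ((DCoh.Lpull f).map_distinguished _ ((ObjectProperty.ι _).map_distinguished _ hT)) p

lemma exactOn_tgt (p : ℤ) : DerCat.ExactFun.ExactOn (tgt f V a p) := fun T hT =>
  (DerivedCategory.homologyFunctor _ p).map_distinguished_exact _
    ((DCoh.restrictD (f ⁻¹ᵁ V).ι).map_distinguished _
      ((ObjectProperty.ι (DCoh.IsQCohD (X := X))).map_distinguished _ (a.map_distinguished _ hT)))

variable {f hE η V}

lemma good_of_iso {K L : DCoh.DQCoh Y} (e : K ≅ L) (h : Good f hE η V L) : Good f hE η V K :=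
  fun n p => (NatTrans.isIso_app_iff_of_iso (map f hE η V p) ((shiftFunctor _ n).mapIso e)).2 (h n p)

lemma good_shift {K : DCoh.DQCoh Y} (h : Good f hE η V K) (m : ℤ) : Good f hE η V (K⟦m⟧) :=
  fun n p => (NatTrans.isIso_app_iff_of_iso _ ((shiftFunctorAdd (DCoh.DQCoh Y) m n).app K)).1
    (h (m + n) p)

lemma good_ext₃ (T : Triangle (DCoh.DQCoh Y)) (hT : T ∈ distTriang _) (h₁ : Good f hE η V T.obj₁)
    (h₂ : Good f hE η V T.obj₂) : Good f hE η V T.obj₃ := fun n p => by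
  let T' := (Triangle.shiftFunctor (DCoh.DQCoh Y) n).obj T
  haveI : IsIso ((map f hE η V p).app T'.obj₁) := h₁ n p
  haveI : IsIso ((map f hE η V p).app T'.obj₂) := h₂ n p
  haveI : IsIso ((map f hE η V p).app (T'.obj₁⟦(1 : ℤ)⟧)) :=
    (NatTrans.isIso_app_iff_of_iso _ ((shiftFunctorAdd (DCoh.DQCoh Y) n 1).app T.obj₁)).1
      (h₁ (n + 1) p)
  haveI : IsIso ((map f hE η V p).app (T'.obj₂⟦(1 : ℤ)⟧)) :=
    (NatTrans.isIso_app_iff_of_iso _ ((shiftFunctorAdd (DCoh.DQCoh Y) n 1).app T.obj₂)).1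
      (h₂ (n + 1) p)
  exact DerCat.ExactFun.isIso₃ (exactOn_src f hE V p) (exactOn_tgt f V p) (map f hE η V p) T'
    (Triangle.shift_distinguished T hT n)

lemma isZero_src {C : DCoh.DQCoh Y} (hC : Van V C.obj) (p : ℤ) :
    IsZero ((src f hE V p).obj C) := by
  haveI := LeftExists.hasLpull (f ∣_ V)
  obtain ⟨e⟩ := ProjectionLocal.nonempty_restrict_Lpull f V C.obj
  exact (DerivedCategory.homologyFunctor _ p).map_isZero
    (ProjectionLocal.isZero_restrict_LTensor _ E (((DCoh.Lpull (f ∣_ V)).map_isZero hC.isZero).of_iso e))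

lemma van_shift {C : DCoh.DQCoh Y} (hC : Van V C.obj) (n : ℤ) : Van V (C⟦n⟧).obj :=
  (hC.shift n).of_iso (((ObjectProperty.ι (DCoh.IsQCohD (X := Y))).commShiftIso n).app C).symm

/-- `a` respects the vanishing on `V`. -/
def Supp (f : X ⟶ Y) (a : DCoh.DQCoh Y ⥤ DCoh.DQCoh X) (V : Y.Opens) : Prop :=
  ∀ K : DCoh.DQCoh Y, Van V K.obj → Van (f ⁻¹ᵁ V) (a.obj K).obj

/-- Goodness only depends on the restriction to `V`. -/
lemma good_iff (hs : Supp f a V) {K L : DCoh.DQCoh Y} (φ : K ⟶ L)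
    [IsIso ((DCoh.restrictD V.ι).map φ.hom)] : Good f hE η V K ↔ Good f hE η V L := by
  obtain ⟨C, u, v, hT⟩ := distinguished_cocone_triangle φ
  have hC : Van V C.obj := (isIso_restrict_iff
    ((ObjectProperty.ι (DCoh.IsQCohD (X := Y))).map_distinguished _ hT)).1
      (inferInstanceAs (IsIso ((DCoh.restrictD V.ι).map φ.hom)))
  have hzt : ∀ {D : DCoh.DQCoh Y} (_ : Van V D.obj) (p : ℤ), IsZero ((tgt f V a p).obj D) :=
    fun hD p => (DerivedCategory.homologyFunctor _ p).map_isZero (hs _ hD).isZero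
  have key : ∀ n p : ℤ,
      IsIso ((map f hE η V p).app (K⟦n⟧)) ↔ IsIso ((map f hE η V p).app (L⟦n⟧)) := by
    intro n p
    let T' := (Triangle.shiftFunctor (DCoh.DQCoh Y) n).obj (Triangle.mk φ u v)
    have hT' := Triangle.shift_distinguished _ hT n
    have h3 : Van V T'.obj₃.obj := van_shift hC n
    have h3' : Van V ((T'.obj₃)⟦(-1 : ℤ)⟧).obj := van_shift h3 (-1)
    have hs' := DerCat.ExactFun.isIso_map_mor₁ (exactOn_src f hE V p) T' hT'
      (isZero_src h3 p) (isZero_src h3' p)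
    have ht := DerCat.ExactFun.isIso_map_mor₁ (exactOn_tgt (a := a) f V p) T' hT'
      (hzt h3 p) (hzt h3' p)
    have hn := (map f hE η V p).naturality T'.mor₁
    constructor
    · intro h
      have hc := @IsIso.comp_isIso _ _ _ _ _ _ _ h ht
      have hc' : IsIso ((src f hE V p).map T'.mor₁ ≫ (map f hE η V p).app T'.obj₂) := hn.symm ▸ hc
      exact @IsIso.of_isIso_comp_left _ _ _ _ _ _ _ hs' hc'
    · intro h
      have hc := @IsIso.comp_isIso _ _ _ _ _ _ _ hs' h
      have hc' : IsIso ((map f hE η V p).app T'.obj₁ ≫ (tgt f V a p).map T'.mor₁) := hn ▸ hc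
      exact @IsIso.of_isIso_comp_right _ _ _ _ _ _ _ ht hc'
  exact ⟨fun h n p => (key n p).1 (h n p), fun h n p => (key n p).2 (h n p)⟩

lemma preservesColimit_src (p : ℤ) {J : Type u} (K : J → DCoh.DQCoh Y) :
    PreservesColimit (Discrete.functor K) (src f hE V p) := by
  haveI := Exists.hasRpush f
  haveI : PreservesColimitsOfSize.{u, u} (DCoh.Lpull f) :=
    (PullPushAdj.derivedAdjunction f).leftAdjoint_preservesColimits
  haveI := TensorCoprod.preservesColimit_LTensorCx E fun j => (DCoh.Lpull f).obj ((ObjectProperty.ι (DCoh.IsQCohD (X := Y))).obj (K j))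
  haveI := CompactUnit.preservesColimits_restrictD (f ⁻¹ᵁ V).ι J
  haveI := QCohCoprod.preservesColimit_homology
    (fun j => (DCoh.restrictD (f ⁻¹ᵁ V).ι).obj
      ((DCoh.LTensorCx E).obj ((DCoh.Lpull f).obj ((ObjectProperty.ι (DCoh.IsQCohD (X := Y))).obj (K j))))) p
  haveI : PreservesColimit
      (Discrete.functor fun j => (DCoh.LTensorCx E).obj ((DCoh.Lpull f).obj ((ObjectProperty.ι (DCoh.IsQCohD (X := Y))).obj (K j)))) (HV f V p) :=
    ProjectionLocal.preservesColimit_comp (DCoh.restrictD (f ⁻¹ᵁ V).ι) _ _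
  haveI : PreservesColimit (Discrete.functor fun j => (DCoh.Lpull f).obj ((ObjectProperty.ι (DCoh.IsQCohD (X := Y))).obj (K j)))
      (DCoh.LTensorCx E ⋙ HV f V p) :=
    ProjectionLocal.preservesColimit_comp (DCoh.LTensorCx E) (HV f V p) _
  haveI : PreservesColimit
      (Discrete.functor fun j => (ObjectProperty.ι (DCoh.IsQCohD (X := Y))).obj (K j))
      (DCoh.Lpull f ⋙ (DCoh.LTensorCx E ⋙ HV f V p)) :=
    ProjectionLocal.preservesColimit_comp (DCoh.Lpull f) _ _
  haveI : PreservesColimit (Discrete.functor K)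
      (ObjectProperty.ι (DCoh.IsQCohD (X := Y)) ⋙ DCoh.Lpull f ⋙ (DCoh.LTensorCx E ⋙ HV f V p)) :=
    ProjectionLocal.preservesColimit_comp (ObjectProperty.ι (DCoh.IsQCohD (X := Y))) _ K
  exact preservesColimit_of_natIso (F := ObjectProperty.ι (DCoh.IsQCohD (X := Y)) ⋙ DCoh.Lpull f ⋙
    (DCoh.LTensorCx E ⋙ HV f V p)) _ (Iso.refl _)

lemma good_coproduct (hcop : ∀ J : Type u, PreservesColimitsOfShape (Discrete J) a) {J : Type u}
    (K : J → DCoh.DQCoh Y) (h : ∀ j, Good f hE η V (K j)) : Good f hE η V (∐ K) := fun n p => by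
  haveI : PreservesColimitsOfSize.{u, u} (shiftFunctor (DCoh.DQCoh Y) n) :=
    (shiftEquiv (DCoh.DQCoh Y) n).toAdjunction.leftAdjoint_preservesColimits
  let M : J → DCoh.DQCoh Y := fun j => (K j)⟦n⟧
  haveI := hcop J
  haveI := CompactUnit.preservesColimits_restrictD (f ⁻¹ᵁ V).ι J
  haveI := QCohCoprod.preservesColimit_homology
    (fun j => (DCoh.restrictD (f ⁻¹ᵁ V).ι).obj
      ((a ⋙ ObjectProperty.ι (DCoh.IsQCohD (X := X))).obj (M j))) p
  haveI : PreservesColimit (Discrete.functor fun j =>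
      (a ⋙ ObjectProperty.ι (DCoh.IsQCohD (X := X))).obj (M j)) (HV f V p) :=
    ProjectionLocal.preservesColimit_comp (DCoh.restrictD (f ⁻¹ᵁ V).ι) _ _
  haveI : PreservesColimit (Discrete.functor M) (tgt f V a p) :=
    ProjectionLocal.preservesColimit_comp (a ⋙ ObjectProperty.ι _) (HV f V p) M
  haveI := preservesColimit_src (f := f) (hE := hE) (V := V) p M
  have key := DerCat.ExactFun.isIso_of_coproduct (map f hE η V p) M fun j => h j n p
  exact (NatTrans.isIso_app_iff_of_iso _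
    (PreservesCoproduct.iso (shiftFunctor (DCoh.DQCoh Y) n) K).symm).1 key

/-- The object `Rj_*M` of `D_QCoh`. -/
noncomputable abbrev pushQ (V : Y.Opens) [DCoh.HasRpush V.ι] [QuasiCompact V.ι]
    (M : DCoh.D (V : Scheme.{u})) (hM : DCoh.IsQCohD M) : DCoh.DQCoh Y :=
  (Supports.pushU V).obj ⟨M, hM⟩

/-- Over an affine open, everything is good. -/
theorem good_of_affine [CompactSpace Y] [QuasiSeparatedSpace Y]
    (hcop : ∀ J : Type u, PreservesColimitsOfShape (Discrete J) a) (hs : Supp f a V)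
    (hV : IsAffineOpen V) (h1 : ∀ n : ℤ, IsIso (η.app (Comparison.oneQ Y n))) (K : DCoh.DQCoh Y) :
    Good f hE η V K := by
  haveI := Exists.hasRpush V.ι
  haveI := quasiCompact_ι hV.isCompact
  haveI : IsAffine (V : Scheme.{u}) := hV
  let R := Supports.pushU V
  let O₀ := Comparison.oneQ Y 0
  have hO : Good f hE η V O₀ := fun n p => by
    let e : (O₀⟦n⟧).obj ≅ (Comparison.oneQ Y (-n)).obj :=
      ((ObjectProperty.ι (DCoh.IsQCohD (X := Y))).commShiftIso n).app O₀ ≪≫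
        (shiftFunctor (DCoh.D Y) n).mapIso
          ((DerivedCategory.singleFunctorIsoCompQ Y.Modules 0).app _).symm ≪≫
        (((DerivedCategory.singleFunctors Y.Modules).shiftIso n (-n) 0 (by omega)).app _) ≪≫
        (DerivedCategory.singleFunctorIsoCompQ Y.Modules (-n)).app _
    haveI := h1 (-n)
    exact (NatTrans.isIso_app_iff_of_iso (map f hE η V p)
      ((ObjectProperty.fullyFaithfulι _).preimageIso e : O₀⟦n⟧ ≅ Comparison.oneQ Y (-n))).2
      (inferInstanceAs (IsIso ((HV f V p).map (η.app (Comparison.oneQ Y (-n))))))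
  have hu : ∀ K : DCoh.DQCoh Y, Good f hE η V K ↔
      Good f hE η V (R.obj ⟨(DCoh.restrictD V.ι).obj K.obj,
        CompactUnit.isQCohD_restrictD _ K.property⟩) := fun K => by
    let φ : K ⟶ R.obj ⟨(DCoh.restrictD V.ι).obj K.obj,
        CompactUnit.isQCohD_restrictD V.ι K.property⟩ :=
      ObjectProperty.homMk (Gen43.Restrict.unit V.ι K.obj)
    haveI : IsIso ((DCoh.restrictD V.ι).map φ.hom) := isIso_restrict_unit V.ι K.obj
    exact good_iff hs φ
  rw [hu]
  -- generation of `D_QCoh(V)` by `𝒪`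
  let e := (V : Scheme.{u}).isoSpec
  let C : ObjectProperty (DCoh.D (Spec (CommRingCat.of Γ((V : Scheme.{u}), ⊤)))) := fun M =>
    DCoh.IsQCohD M ∧
      ∀ hM : DCoh.IsQCohD ((RD e.hom).obj M), Good f hE η V (R.obj ⟨(RD e.hom).obj M, hM⟩)
  haveI : C.IsClosedUnderIsomorphisms := ⟨fun i h => ⟨DCoh.IsQCohD.prop_of_iso i h.1, fun hM =>
    good_of_iso (R.mapIso (ObjectProperty.isoMk _ ((RD e.hom).mapIso i).symm))
    (h.2 ((DCoh.IsQCohD (X := (V : Scheme.{u}))).prop_of_iso ((RD e.hom).mapIso i).symm hM))⟩⟩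
  have hqc : ∀ {M}, DCoh.IsQCohD M → DCoh.IsQCohD ((RD e.hom).obj M) := fun hM =>
    CompactUnit.isQCohD_restrictD e.hom hM
  let P := RD e.hom ⋙ DCoh.Rpush V.ι
  have hC' : ∀ M, DCoh.IsQCohD M → C M := fun M hM₀ => AffineGenerate.mem_of_isQCohD _ C
    (fun M n hMq h => ⟨DCoh.IsQCohD.le_shift n _ hMq, fun hM =>
      good_of_iso (ObjectProperty.isoMk _ ((P.commShiftIso n).app M ≪≫
          (((ObjectProperty.ι (DCoh.IsQCohD (X := Y))).commShiftIso n).app
            (R.obj ⟨_, hqc hMq⟩)).symm))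
        (good_shift (h.2 (hqc hMq)) n)⟩)
    (fun T hT h₁ h₂ => ⟨DCoh.IsQCohD.ext_of_isTriangulatedClosed₃ T hT h₁.1 h₂.1, fun hM => by
      let A₁ := R.obj ⟨_, hqc h₁.1⟩
      let A₂ := R.obj ⟨_, hqc h₂.1⟩
      let A₃ := R.obj ⟨_, hM⟩
      let T' : Triangle (DCoh.DQCoh Y) := Triangle.mk
        (X := A₁) (Y := A₂) (Z := A₃) (ObjectProperty.homMk (P.map T.mor₁))
        (ObjectProperty.homMk (P.map T.mor₂))
        (ObjectProperty.homMk (P.map T.mor₃ ≫ (P.commShiftIso (1 : ℤ)).hom.app T.obj₁ ≫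
          ((ObjectProperty.ι (DCoh.IsQCohD (X := Y))).commShiftIso (1 : ℤ)).inv.app A₁))
      have hh : (P.map T.mor₃ ≫ (P.commShiftIso (1 : ℤ)).hom.app T.obj₁ ≫
          ((ObjectProperty.ι (DCoh.IsQCohD (X := Y))).commShiftIso (1 : ℤ)).inv.app A₁) ≫
            ((ObjectProperty.ι (DCoh.IsQCohD (X := Y))).commShiftIso (1 : ℤ)).hom.app A₁ =
          P.map T.mor₃ ≫ (P.commShiftIso (1 : ℤ)).hom.app T.obj₁ := by
        simp only [Category.assoc]
        exact congrArg (fun z => P.map T.mor₃ ≫ (P.commShiftIso (1 : ℤ)).hom.app T.obj₁ ≫ z)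
          (Iso.inv_hom_id_app _ A₁) |>.trans (congrArg (_ ≫ ·) (Category.comp_id _))
      have hT' : T' ∈ distTriang _ := isomorphic_distinguished _ (P.map_distinguished _ hT) _
        (Triangle.isoMk _ _ (Iso.refl _) (Iso.refl _) (Iso.refl _)
          ((Category.comp_id _).trans (Category.id_comp _).symm)
          ((Category.comp_id _).trans (Category.id_comp _).symm)
          (((congrArg (_ ≫ ·) (CategoryTheory.Functor.map_id _ _)).trans (Category.comp_id _)).trans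
            (hh.trans (Category.id_comp _).symm)))
      exact good_ext₃ T' hT' (h₁.2 _) (h₂.2 _)⟩)
    (fun J M _ hMq h => ⟨QCohCoprod.isQCohD_coproduct M hMq, fun hM => by
      haveI := CompactUnit.preservesColimits_restrictD e.hom J
      haveI := CompactUnit.hasCoproduct J fun j => (RD e.hom).obj (M j)
      let M₁ : J → DCoh.DQCoh (V : Scheme.{u}) := fun j => ⟨(RD e.hom).obj (M j), hqc (hMq j)⟩
      haveI : HasCoproduct fun j => (ObjectProperty.ι (DCoh.IsQCohD (X := (V : Scheme.{u})))).obj (M₁ j) :=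
        CompactUnit.hasCoproduct J fun j => (RD e.hom).obj (M j)
      let i₁ : (⟨(RD e.hom).obj (∐ M), hM⟩ : DCoh.DQCoh (V : Scheme.{u})) ≅ ∐ M₁ :=
        ObjectProperty.isoMk _ (PreservesCoproduct.iso (RD e.hom) M ≪≫
          (PreservesCoproduct.iso (ObjectProperty.ι (DCoh.IsQCohD (X := (V : Scheme.{u})))) M₁).symm)
      haveI := Supports.preservesColimit_pushU V M₁
      exact good_of_iso (R.mapIso i₁ ≪≫ PreservesCoproduct.iso R M₁)
        (good_coproduct hcop _ fun j => (h j).2 _)⟩)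
    ⟨DCoh.IsQCohD.prop_of_iso ((DerivedCategory.singleFunctorIsoCompQ _ 0).app _).symm
      (Comparison.oneQ _ 0).property, fun hM => good_of_iso (R.mapIso (ObjectProperty.isoMk _
        (CompactUnit.restrictOneIso e.hom ≪≫ (CompactUnit.restrictOneIso V.ι).symm ≪≫
          (DCoh.restrictD V.ι).mapIso
            ((DerivedCategory.singleFunctorIsoCompQ Y.Modules 0).app _))))
      ((hu O₀).1 hO)⟩ hM₀
  let L := (DCoh.restrictD V.ι).obj K.obj
  have hLq : DCoh.IsQCohD L := CompactUnit.isQCohD_restrictD V.ι K.property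
  let i₂ : L ≅ (RD e.hom).obj ((RD e.inv).obj L) :=
    (DerivedCategory.Q.objObjPreimageIso L).symm ≪≫
      DerivedCategory.Q.mapIso ((rCId (V : Scheme.{u})).app _).symm ≪≫ (RDQ _ _).symm ≪≫
      (RD (𝟙 (V : Scheme.{u}))).mapIso (DerivedCategory.Q.objObjPreimageIso L) ≪≫
      RDCongr e.hom_inv_id.symm L ≪≫ RDComp e.hom e.inv L
  exact good_of_iso (R.mapIso (ObjectProperty.isoMk _ i₂ :
      (⟨L, hLq⟩ : DCoh.DQCoh (V : Scheme.{u})) ≅
        ⟨_, hqc (CompactUnit.isQCohD_restrictD e.inv hLq)⟩))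
    ((hC' _ (CompactUnit.isQCohD_restrictD e.inv hLq)).2 _)

end Groth.Agent.Lib.RightAdjTensor.Main
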