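import Groth.Agent.Lib.RightAdjTensor.Scalar
import Groth.Agent.Lib.DerivedOX.QCohCoprod
import Groth.Agent.Lib.QCoh.Localizing
import Groth.Agent.Lib.Modules.Support
import Groth.Agent.Lib.Gen43.Restrict
import Mathlib.CategoryTheory.Limits.Preserves.Shapes.Products

/-!
# The telescope of an endomorphism
-/

set_option autoImplicit false
set_option linter.unusedSectionVars false
set_option linter.style.haveILetI false

universe u

open CategoryTheory Limits AlgebraicGeometry Opposite

attribute [local instance] HasDerivedCategory.standard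

namespace Groth.Agent.Lib.RightAdjTensor.Tel

open Groth.Agent.Lib

/-- The index type. -/
abbrev J : Type u := ULift.{u} ℕ

/-- The successor. -/
abbrev nx (k : J.{u}) : J.{u} := ⟨k.down + 1⟩

section General

variable {C : Type*} [Category C] [Preadditive C] {K : C} (φ : K ⟶ K)

/-- `1 - shift ∘ φ` on the countable sum. -/
noncomputable def tel [HasCoproduct fun _ : J.{u} => K] :
    (∐ fun _ : J.{u} => K) ⟶ ∐ fun _ : J.{u} => K :=
  Sigma.desc fun k => Sigma.ι (fun _ : J.{u} => K) k - φ ≫ Sigma.ι (fun _ : J.{u} => K) (nx k)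

@[reassoc]
lemma ι_tel [HasCoproduct fun _ : J.{u} => K] (k : J.{u}) :
    Sigma.ι (fun _ : J.{u} => K) k ≫ tel φ =
      Sigma.ι (fun _ : J.{u} => K) k - φ ≫ Sigma.ι (fun _ : J.{u} => K) (nx k) := by
  simp [tel]

/-- Functors preserving the sum preserve invertibility of `1 - shift ∘ φ`. -/
theorem isIso_tel_map {D : Type*} [Category D] [Preadditive D] (F : C ⥤ D) [F.Additive]
    [HasCoproduct fun _ : J.{u} => K] [HasCoproduct fun _ : J.{u} => F.obj K]
    [PreservesColimit (Discrete.functor fun _ : J.{u} => K) F] [IsIso (tel.{u} φ)] :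
    IsIso (tel.{u} (F.map φ)) := by
  let θ := sigmaComparison F (fun _ : J.{u} => K)
  have h : tel.{u} (F.map φ) ≫ θ = θ ≫ F.map (tel.{u} φ) := Sigma.hom_ext _ _ fun k => by
    rw [ι_tel_assoc, ι_comp_sigmaComparison_assoc, ← F.map_comp, ι_tel, F.map_sub, F.map_comp,
      Preadditive.sub_comp, Category.assoc]
    simp only [θ, ι_comp_sigmaComparison]
  have : tel.{u} (F.map φ) = θ ≫ F.map (tel.{u} φ) ≫ inv θ := by
    rw [← Category.assoc, ← h, Category.assoc, IsIso.hom_inv_id, Category.comp_id]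
  rw [this]
  infer_instance

/-- If `φ` and `1 - shift ∘ φ` are invertible, the object is zero. -/
theorem isZero_of_tel [HasCoproduct fun _ : J.{u} => K] [IsIso φ] [IsIso (tel.{u} φ)] : IsZero K := by
  refine (IsZero.iff_id_eq_zero _).2 ?_
  let g : ℕ → (K ⟶ K) := fun n => Nat.rec (𝟙 K) (fun _ t => inv φ ≫ t) n
  let q : (∐ fun _ : J.{u} => K) ⟶ K := Sigma.desc fun k => g k.down
  have hq : tel.{u} φ ≫ q = tel.{u} φ ≫ 0 := Sigma.hom_ext _ _ fun k => by
    rw [comp_zero, comp_zero, ι_tel_assoc, Preadditive.sub_comp, Category.assoc]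
    simp [q, g]
  have h0 := congrArg (Sigma.ι (fun _ : J.{u} => K) (⟨0⟩ : J.{u}) ≫ ·) ((cancel_epi (tel.{u} φ)).1 hq)
  simpa [q, g] using h0

/-- A locally nilpotent `F φ` makes `F (1 - shift ∘ φ)` bijective. -/
theorem bijective_tel (F : C ⥤ AddCommGrpCat.{u}) [F.Additive] [HasCoproduct fun _ : J.{u} => K]
    [PreservesColimit (Discrete.functor fun _ : J.{u} => K) F]
    (h : ∀ x : F.obj K, ∃ n, (F.map φ)^[n] x = 0) :
    Function.Bijective (F.map (tel.{u} φ)) := by
  let e : (∐ fun _ : J.{u} => K) ⟶ ∐ fun _ : J.{u} => K :=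
    Sigma.desc fun k => φ ≫ Sigma.ι (fun _ : J.{u} => K) (nx k)
  have he : tel.{u} φ = 𝟙 _ - e := Sigma.hom_ext _ _ fun k => by
    simp [e, ι_tel, Preadditive.comp_sub]
  let G := F.obj (∐ fun _ : J.{u} => K)
  let E : G →+ G := (F.map e).hom
  have hι : ∀ (n : ℕ) (k : J.{u}) (x : F.obj K),
      E^[n] (F.map (Sigma.ι (fun _ : J.{u} => K) k) x) =
        F.map (Sigma.ι (fun _ : J.{u} => K) (⟨k.down + n⟩ : J.{u})) ((F.map φ)^[n] x) := by
    intro n
    induction n with
    | zero => intro k x; rfl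
    | succ n ih =>
      intro k x
      have h1 : E (F.map (Sigma.ι (fun _ : J.{u} => K) k) x) =
          F.map (Sigma.ι (fun _ : J.{u} => K) (nx k)) (F.map φ x) := by
        show (F.map (Sigma.ι (fun _ : J.{u} => K) k) ≫ F.map e) x = _
        rw [← F.map_comp, colimit.ι_desc, Cofan.mk_ι_app, F.map_comp]
        rfl
      rw [Function.iterate_succ_apply, h1, ih, Function.iterate_succ_apply]
      have hk : (⟨(nx k).down + n⟩ : J.{u}) = ⟨k.down + (n + 1)⟩ := ULift.ext _ _ (by simp; omega)
      rw [hk]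
  let S : AddSubgroup G :=
    { carrier := {y | ∃ n, E^[n] y = 0}
      zero_mem' := ⟨0, rfl⟩
      add_mem' := fun {a b} ⟨n, hn⟩ ⟨m, hm⟩ => ⟨n + m, by
        rw [iterate_map_add]
        nth_rewrite 1 [add_comm n m]
        rw [Function.iterate_add_apply, hn, Function.iterate_add_apply, hm]
        simp⟩
      neg_mem' := fun {a} ⟨n, hn⟩ => ⟨n, by rw [iterate_map_neg, hn, neg_zero]⟩ }
  have hS : ∀ y : G, y ∈ S := by
    let π : G ⟶ AddCommGrpCat.of (G ⧸ S) := AddCommGrpCat.ofHom (QuotientAddGroup.mk' S)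
    have hπ : π = 0 := by
      refine Cofan.IsColimit.hom_ext (isColimitCofanMkObjOfIsColimit F _ (Sigma.ι fun _ : J.{u} => K)
        (coproductIsCoproduct fun _ : J.{u} => K)) _ _ fun k => ?_
      rw [comp_zero]
      ext x
      obtain ⟨n, hn⟩ := h x
      refine (QuotientAddGroup.eq_zero_iff _).2 ⟨n, ?_⟩
      exact (hι n k x).trans ((congrArg _ hn).trans (map_zero _))
    exact fun y => (QuotientAddGroup.eq_zero_iff y).1 (ConcreteCategory.congr_hom hπ y)
  have hF : ∀ y : G, F.map (tel.{u} φ) y = y - E y := fun y => by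
    rw [he, F.map_sub, F.map_id]
    rfl
  constructor
  · intro a b hab
    rw [← sub_eq_zero]
    have h0 : F.map (tel.{u} φ) (a - b) = 0 := by rw [map_sub, hab, sub_self]
    generalize a - b = c at h0 ⊢
    rw [hF, sub_eq_zero] at h0
    obtain ⟨n, hn⟩ := hS c
    rwa [Function.iterate_fixed h0.symm] at hn
  · intro y
    obtain ⟨n, hn⟩ := hS y
    have hsum : ∀ m, F.map (tel.{u} φ) (∑ i ∈ Finset.range m, E^[i] y) = y - E^[m] y := by
      intro m
      induction m with
      | zero => simp
      | succ m ih =>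
        rw [Finset.sum_range_succ, map_add, ih, hF, Function.iterate_succ_apply']
        abel
    exact ⟨_, (hsum n).trans (by rw [hn, sub_zero])⟩

end General

variable {X : Scheme.{u}}

lemma homologyMap_sC (r : Γ(X, ⊤)) (K : CochainComplex X.Modules ℤ) (i : ℤ) :
    HomologicalComplex.homologyMap ((Scalar.sC r).app K) i = TwSh.scalarEnd (K.homology i) r := by
  have hc : HomologicalComplex.cyclesMap ((Scalar.sC r).app K) i = TwSh.scalarEnd (K.cycles i) r := by
    rw [← cancel_mono (K.iCycles i)]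
    exact (HomologicalComplex.cyclesMap_i _ i).trans (Scalar.scalarEnd_natural (K.iCycles i) r)
  rw [← cancel_epi (K.homologyπ i)]
  exact (HomologicalComplex.homologyπ_naturality _ i).trans
    ((congrArg (· ≫ K.homologyπ i) hc).trans (Scalar.scalarEnd_natural (K.homologyπ i) r).symm)

/-- Cohomology of multiplication by `r`. -/
theorem homology_sD (r : Γ(X, ⊤)) (L : DCoh.D X) (i : ℤ) :
    (DerivedCategory.homologyFunctor X.Modules i).map ((Scalar.sD r).app L) =
      TwSh.scalarEnd (DCoh.HD L i) r := by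
  let Q := DerivedCategory.Q (C := X.Modules)
  let e := Q.objObjPreimageIso L
  let H := DerivedCategory.homologyFunctor X.Modules i
  let φ : (Q.objPreimage L).homology i ≅ DCoh.HD L i :=
    ((DerivedCategory.homologyFunctorFactors X.Modules i).app (Q.objPreimage L)).symm ≪≫ H.mapIso e
  have h1 : φ.hom ≫ H.map ((Scalar.sD r).app L) =
      HomologicalComplex.homologyMap ((Scalar.sC r).app (Q.objPreimage L)) i ≫ φ.hom := by
    have hn := congrArg H.map ((Scalar.sD r).naturality e.hom)
    have hf := (DerivedCategory.homologyFunctorFactors X.Modules i).inv.naturality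
      ((Scalar.sC r).app (Q.objPreimage L))
    rw [H.map_comp, H.map_comp, Scalar.sD_app_Q] at hn
    exact (Category.assoc _ _ _).trans ((congrArg (_ ≫ ·) hn).trans
      ((Category.assoc _ _ _).symm.trans ((congrArg (· ≫ _) hf.symm).trans (Category.assoc _ _ _))))
  rw [homologyMap_sC] at h1
  exact (cancel_epi φ.hom).1 (h1.trans (Scalar.scalarEnd_natural φ.hom r).symm)

/-- Multiplication by `r` on `L`. -/
noncomputable abbrev mulD (r : Γ(X, ⊤)) (L : DCoh.D X) : L ⟶ L := (Scalar.sD r).app L

/-- On an affine scheme, `1 - shift ∘ r` is invertible at objects of `D_QCoh` vanishing on `D(r)`. -/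
theorem isIso_tel_sD [IsAffine X] (r : Γ(X, ⊤)) (L : DCoh.D X) (hL : DCoh.IsQCohD L)
    (hv : Gen43.Restrict.Van (X.basicOpen r) L) [HasCoproduct fun _ : J.{u} => L] :
    IsIso (tel.{u} (mulD r L)) := by
  rw [DerivedCategory.isIso_iff]
  intro i
  rw [Modules.Stalk.isIso_iff_stalk_bijective]
  intro x
  haveI := DerivedOX.QCohCoprod.preservesColimit_homology (fun _ : J.{u} => L) i
  haveI : PreservesColimit
      ((Discrete.functor fun _ : J.{u} => L) ⋙ DerivedCategory.homologyFunctor X.Modules i)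
      (Modules.Stalk.stalkFunctor X x) := inferInstance
  let F := DerivedCategory.homologyFunctor X.Modules i ⋙ Modules.Stalk.stalkFunctor X x
  refine bijective_tel _ F fun z => ?_
  haveI : (DCoh.HD L i).IsQuasicoherent := hL i
  obtain ⟨U, hxU, m, rfl⟩ := TopCat.Presheaf.germ_exist (x := x) (DCoh.HD L i).presheaf z
  obtain ⟨W, hW, hxW, hWU⟩ := exists_isAffineOpen_mem_and_subset hxU
  let r' : Γ(X, W) := TwSh.resTop X W r
  let m' : Γ(DCoh.HD L i, W) := (DCoh.HD L i).presheaf.map (homOfLE hWU).op m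
  obtain ⟨n, hn⟩ := QCoh.Localizing.exists_pow_smul_eq_zero_of_isCompact (DCoh.HD L i) hW.isCompact r' m' (by
    refine Modules.Support.eq_zero_of_germ_eq_zero _ fun y hy hs => absurd hs (hv i y ?_)
    rw [show X.basicOpen r' = W ⊓ X.basicOpen r from X.basicOpen_res r (homOfLE le_top).op] at hy
    exact hy.2)
  refine ⟨n, ?_⟩
  have hg : (DCoh.HD L i).presheaf.germ U x hxU m = (DCoh.HD L i).presheaf.germ W x hxW m' :=
    (TopCat.Presheaf.germ_res_apply (DCoh.HD L i).presheaf (homOfLE hWU) x hxW m).symm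
  have hit : ∀ k : ℕ, (F.map (mulD r L))^[k] ((DCoh.HD L i).presheaf.germ W x hxW m') =
      (DCoh.HD L i).presheaf.germ W x hxW (r' ^ k • m') := by
    intro k
    induction k with
    | zero => simp
    | succ k ih =>
      rw [Function.iterate_succ_apply', ih]
      change (Modules.Stalk.stalkFunctor X x).map
        ((DerivedCategory.homologyFunctor X.Modules i).map ((Scalar.sD r).app L)) _ = _
      rw [homology_sD]
      refine (Modules.Stalk.stalkFunctor_map_germ x _ hxW _).trans ?_
      exact congrArg ((DCoh.HD L i).presheaf.germ W x hxW) (by rw [pow_succ', mul_smul]; rfl)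
  rw [hg, hit, hn]
  exact map_zero _

end Groth.Agent.Lib.RightAdjTensor.Tel
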