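import Groth.Agent.Lib.RightAdjTensor.Loc
import Groth.Agent.Lib.RightAdjTensor.Tel
import Groth.Agent.Lib.RightAdjTensor.Coprod
import Groth.Agent.Lib.DerivedOX.RpushCoprod
import Groth.Agent.Lib.DerivedOX.RestrictRpush

/-!
# The right adjoint of `Rf_*` respects supports when it preserves coproducts
-/

set_option autoImplicit false
set_option linter.unusedSectionVars false
set_option linter.style.haveILetI false

universe u

open CategoryTheory Limits AlgebraicGeometry Pretriangulated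

attribute [local instance] HasDerivedCategory.standard

namespace Groth.Agent.Lib.RightAdjTensor.Supports

open Groth.Agent.Lib Gen43.Restrict Loc

variable {X Y : Scheme.{u}}

lemma isIso_tel_of_map {C D : Type*} [Category C] [Category D] [Preadditive C] [Preadditive D]
    (F : C ⥤ D) [F.Additive] [F.ReflectsIsomorphisms] {K : C} (φ : K ⟶ K)
    [HasCoproduct fun _ : Tel.J.{u} => K] [HasCoproduct fun _ : Tel.J.{u} => F.obj K]
    [PreservesColimit (Discrete.functor fun _ : Tel.J.{u} => K) F] [IsIso (Tel.tel.{u} (F.map φ))] :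
    IsIso (Tel.tel.{u} φ) := by
  let θ := sigmaComparison F (fun _ : Tel.J.{u} => K)
  have h : Tel.tel.{u} (F.map φ) ≫ θ = θ ≫ F.map (Tel.tel.{u} φ) := Sigma.hom_ext _ _ fun k => by
    rw [Tel.ι_tel_assoc, ι_comp_sigmaComparison_assoc, ← F.map_comp, Tel.ι_tel, F.map_sub,
      F.map_comp, Preadditive.sub_comp, Category.assoc]
    simp only [θ, ι_comp_sigmaComparison]
  have : F.map (Tel.tel.{u} φ) = inv θ ≫ Tel.tel.{u} (F.map φ) ≫ θ := by
    rw [h, IsIso.inv_hom_id_assoc]
  haveI : IsIso (F.map (Tel.tel.{u} φ)) := by rw [this]; infer_instance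
  exact isIso_of_reflects_iso _ F

lemma hasCoproduct_qc (J : Type u) (K : J → DCoh.DQCoh X) : HasCoproduct K := inferInstance

variable (f : X ⟶ Y) [DCoh.HasRpush f] (hf : DCoh.RpushPreservesQCoh f)
  {a : DCoh.DQCoh Y ⥤ DCoh.DQCoh X} (adj : DCoh.RpushQ f hf ⊣ a)
variable [CompactSpace X] [QuasiSeparatedSpace X] [CompactSpace Y] [QuasiSeparatedSpace Y]

include adj in
/-- `a` turns objects local to `U` into objects local to `f⁻¹U`. -/
theorem isLoc_a {U : Y.Opens} {K : DCoh.DQCoh Y} (hK : IsLoc U K.obj) :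
    IsLoc (f ⁻¹ᵁ U) (a.obj K).obj := fun F hF hU φ => by
  haveI := additive_a f hf adj
  haveI := DerivedOX.Exists.hasRpush (f ∣_ U)
  let F' : DCoh.DQCoh X := ⟨F, hF⟩
  have h0 : (adj.homEquiv F' K).symm (ObjectProperty.homMk φ) = 0 :=
    ObjectProperty.hom_ext _ (hK _ (hf F hF) (van_of_isZero (((DCoh.Rpush (f ∣_ U)).map_isZero hU.isZero).of_iso
      ((DerivedOX.RestrictRpush.restrictD_Rpush_iso f U).app F))) _)
  have h1 : (ObjectProperty.homMk φ : F' ⟶ a.obj K) = 0 := by
    rw [← (adj.homEquiv F' K).apply_symm_apply (ObjectProperty.homMk φ)]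
    refine (congrArg _ h0).trans ?_
    rw [adj.homEquiv_unit, Functor.map_zero, comp_zero]
  exact congrArg (fun t => t.hom) h1

lemma quasiCompact_f : QuasiCompact f := inferInstance

/-- `Rj_*` on `D_QCoh`. -/
noncomputable abbrev pushU (U : Y.Opens) [DCoh.HasRpush U.ι] [QuasiCompact U.ι] :
    DCoh.DQCoh (U : Scheme.{u}) ⥤ DCoh.DQCoh Y :=
  ObjectProperty.lift _ (ObjectProperty.ι _ ⋙ DCoh.Rpush U.ι) fun K =>
    DerivedOX.RpushQCoh.isQCohD_Rpush U.ι K.obj K.property

lemma preservesColimit_pushU (U : Y.Opens) [DCoh.HasRpush U.ι] [QuasiCompact U.ι] {J : Type u}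
    (K : J → DCoh.DQCoh (U : Scheme.{u})) : PreservesColimit (Discrete.functor K) (pushU U) := by
  haveI := DerivedOX.RpushCoprod.preservesColimit_Rpush U.ι
    (fun j => (K j).obj) fun j => (K j).property
  haveI : PreservesColimit (Discrete.functor K ⋙ ObjectProperty.ι _) (DCoh.Rpush U.ι) :=
    preservesColimit_of_iso_diagram (K₁ := Discrete.functor fun j => (K j).obj) _
      (Discrete.compNatIsoDiscrete K (ObjectProperty.ι (DCoh.IsQCohD (X := (U : Scheme.{u}))))).symm
  haveI : PreservesColimit (Discrete.functor K) (pushU U ⋙ ObjectProperty.ι _) :=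
    preservesColimit_of_natIso (F := ObjectProperty.ι _ ⋙ DCoh.Rpush U.ι) _ (Iso.refl _)
  exact preservesColimit_of_reflects_of_preserves _ (ObjectProperty.ι _)

variable (hcop : ∀ J : Type u, PreservesColimitsOfShape (Discrete J) a)

include adj hcop in
/-- The case of an affine open and a basic open of it. -/
theorem van_basicOpen {U : Y.Opens} (hU : IsAffineOpen U) [DCoh.HasRpush U.ι] [QuasiCompact U.ι]
    (L : DCoh.DQCoh (U : Scheme.{u})) (s : Γ((U : Scheme.{u}), ⊤))
    (hs : Van ((U : Scheme.{u}).basicOpen s) L.obj) :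
    Van (((f ⁻¹ᵁ U : X.Opens) : Scheme.{u}).basicOpen ((f ∣_ U).appTop s))
      ((DCoh.restrictD (f ⁻¹ᵁ U).ι).obj (a.obj ((pushU U).obj L)).obj) := by
  haveI := additive_a f hf adj
  haveI : IsAffine (U : Scheme.{u}) := hU
  haveI := DerivedOX.Exists.hasRpush (f ∣_ U)
  let W := f ⁻¹ᵁ U
  have hW : IsCompact (W : Set X) :=
    (quasiCompact_f f).1 _ U.2 hU.isCompact
  haveI := quasiCompact_ι hW
  haveI := DerivedOX.Exists.hasRpush W.ι
  let t := (f ∣_ U).appTop s
  let Ω := (W : Scheme.{u}).basicOpen t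
  let M := (pushU U).obj L
  let A := (a.obj M).obj
  let jA := (DCoh.restrictD W.ι).obj A
  -- the endomorphism
  let φ₀ : L ⟶ L := ObjectProperty.homMk (Tel.mulD s L.obj)
  let φ₁ := (pushU U).map φ₀
  let φ₂ := a.map φ₁
  -- the telescope stays invertible
  haveI := DerivedOX.CompactUnit.hasCoproduct Tel.J.{u} fun _ => L.obj
  haveI : IsIso (Tel.tel.{u} (Tel.mulD s L.obj)) := Tel.isIso_tel_sD s L.obj L.property hs
  haveI : HasCoproduct fun _ : Tel.J.{u} =>
      (ObjectProperty.ι (DCoh.IsQCohD (X := (U : Scheme.{u})))).obj L :=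
    DerivedOX.CompactUnit.hasCoproduct Tel.J.{u} fun _ => L.obj
  haveI : IsIso (Tel.tel.{u} ((ObjectProperty.ι (DCoh.IsQCohD (X := (U : Scheme.{u})))).map φ₀)) :=
    (inferInstance : IsIso (Tel.tel.{u} (Tel.mulD s L.obj)))
  haveI : IsIso (Tel.tel.{u} φ₀) := isIso_tel_of_map (ObjectProperty.ι _) φ₀
  haveI := preservesColimit_pushU U fun _ : Tel.J.{u} => L
  haveI : IsIso (Tel.tel.{u} φ₁) := Tel.isIso_tel_map φ₀ (pushU U)
  haveI := hcop Tel.J.{u}
  haveI : IsIso (Tel.tel.{u} φ₂) := Tel.isIso_tel_map φ₁ a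
  let F := ObjectProperty.ι (DCoh.IsQCohD (X := X))
  haveI : HasCoproduct fun _ : Tel.J.{u} => F.obj (a.obj M) :=
    DerivedOX.CompactUnit.hasCoproduct Tel.J.{u} fun _ => A
  haveI : IsIso (Tel.tel.{u} (F.map φ₂)) := Tel.isIso_tel_map φ₂ F
  haveI := DerivedOX.CompactUnit.preservesColimits_restrictD W.ι Tel.J.{u}
  haveI := DerivedOX.CompactUnit.preservesColimits_restrictD Ω.ι Tel.J.{u}
  haveI := DerivedOX.CompactUnit.hasCoproduct Tel.J.{u} fun _ => (DCoh.restrictD W.ι).obj (F.obj (a.obj M))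
  haveI : IsIso (Tel.tel.{u} ((DCoh.restrictD W.ι).map (F.map φ₂))) :=
    Tel.isIso_tel_map (F.map φ₂) (DCoh.restrictD W.ι)
  haveI := DerivedOX.CompactUnit.hasCoproduct Tel.J.{u} fun _ =>
    (DCoh.restrictD Ω.ι).obj ((DCoh.restrictD W.ι).obj (F.obj (a.obj M)))
  haveI : IsIso (Tel.tel.{u} ((DCoh.restrictD Ω.ι).map ((DCoh.restrictD W.ι).map (F.map φ₂)))) :=
    Tel.isIso_tel_map ((DCoh.restrictD W.ι).map (F.map φ₂)) (DCoh.restrictD Ω.ι)
  -- `a` of multiplication by `s` is multiplication by `t`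
  have hφ : (DCoh.restrictD W.ι).map φ₂.hom = Tel.mulD t jA := by
    let r := DCoh.restrictD W.ι
    let R := DCoh.Rpush W.ι
    let adjW := DerivedOX.OpenImm.restrictPushAdj W.ι
    let u := Gen43.Restrict.unit W.ι A
    haveI : IsIso u := isIso_unit_of_isLoc hW (isLoc_a f hf adj (isLoc_push L.obj)) (a.obj M).property
    let χ : A ⟶ A := u ≫ R.map (Tel.mulD t jA) ≫ inv u
    have hc : r.map u ≫ adjW.counit.app jA = 𝟙 jA := adjW.left_triangle_components A
    have hχ : r.map χ = Tel.mulD t jA := by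
      have h1 : r.map χ ≫ r.map u = r.map u ≫ r.map (R.map (Tel.mulD t jA)) := by
        rw [← r.map_comp, ← r.map_comp]
        simp [χ]
      have h2 : r.map (R.map (Tel.mulD t jA)) ≫ adjW.counit.app jA =
          adjW.counit.app jA ≫ Tel.mulD t jA := adjW.counit.naturality (Tel.mulD t jA)
      calc r.map χ = r.map χ ≫ r.map u ≫ adjW.counit.app jA := by rw [hc, Category.comp_id]
        _ = r.map u ≫ adjW.counit.app jA ≫ Tel.mulD t jA := by
          rw [← Category.assoc, h1, Category.assoc, h2]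
        _ = Tel.mulD t jA := by rw [← Category.assoc, hc, Category.id_comp]
    suffices (ObjectProperty.homMk χ : a.obj M ⟶ a.obj M) = φ₂ by
      rw [← this]; exact hχ
    let e := adj.homEquiv (a.obj M) M
    apply e.symm.injective
    have hR : e.symm φ₂ = adj.counit.app M ≫ φ₁ := by
      refine (adj.homEquiv_counit _ _ _).trans ?_
      exact adj.counit.naturality φ₁
    rw [hR, adj.homEquiv_counit]
    apply ObjectProperty.hom_ext
    let ε := (adj.counit.app M).hom
    change (DCoh.Rpush f).map χ ≫ ε = ε ≫ (DCoh.Rpush U.ι).map (Tel.mulD s L.obj)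
    let adjU := DerivedOX.OpenImm.restrictPushAdj U.ι
    let rU := DCoh.restrictD U.ι
    apply (adjU.homEquiv _ _).symm.injective
    rw [adjU.homEquiv_counit, adjU.homEquiv_counit, rU.map_comp, rU.map_comp, Category.assoc,
      Category.assoc]
    refine Eq.trans ?_ (congrArg (rU.map ε ≫ ·) (adjU.counit.naturality (Tel.mulD s L.obj))).symm
    have hsn : Tel.mulD s (rU.obj ((DCoh.Rpush f).obj A)) ≫ rU.map ε ≫ adjU.counit.app L.obj =
        rU.map ε ≫ adjU.counit.app L.obj ≫ Tel.mulD s L.obj := by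
      have h := (Scalar.sD s).naturality (rU.map ε ≫ adjU.counit.app L.obj)
      exact h.symm.trans (Category.assoc _ _ _)
    refine Eq.trans ?_ hsn
    refine congrArg (· ≫ rU.map ε ≫ adjU.counit.app L.obj) ?_
    let bc := DerivedOX.RestrictRpush.restrictD_Rpush_iso f U
    have hb : rU.map ((DCoh.Rpush f).map χ) ≫ bc.hom.app A =
        bc.hom.app A ≫ (DCoh.Rpush (f ∣_ U)).map (r.map χ) := bc.hom.naturality χ
    rw [hχ] at hb
    have hs' : (DCoh.Rpush (f ∣_ U)).map (Tel.mulD t jA) =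
        Tel.mulD s ((DCoh.Rpush (f ∣_ U)).obj jA) := Scalar.Rpush_sD (f ∣_ U) s jA
    rw [hs'] at hb
    exact (cancel_mono (bc.hom.app A)).1 (hb.trans ((Scalar.sD s).naturality (bc.hom.app A)))
  haveI : IsIso ((DCoh.restrictD Ω.ι).map ((DCoh.restrictD W.ι).map (F.map φ₂))) := by
    change IsIso ((DCoh.restrictD Ω.ι).map ((DCoh.restrictD W.ι).map φ₂.hom))
    rw [hφ]
    exact Scalar.isIso_restrictD_sD Ω.ι t (by rw [Scheme.Opens.opensRange_ι]) jA
  exact van_of_isZero (Tel.isZero_of_tel.{u}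
    ((DCoh.restrictD Ω.ι).map ((DCoh.restrictD W.ι).map (F.map φ₂))))

include adj hcop in
/-- The case of an object pushed forward from an affine open. -/
theorem van_affine {U : Y.Opens} (hU : IsAffineOpen U) {V : Y.Opens} (K : DCoh.DQCoh Y)
    (hloc : IsLoc U K.obj) (hv : Van V K.obj) : Van (f ⁻¹ᵁ V) (a.obj K).obj := by
  haveI := DerivedOX.Exists.hasRpush U.ι
  haveI := quasiCompact_ι hU.isCompact
  let L : DCoh.DQCoh (U : Scheme.{u}) :=
    ⟨(DCoh.restrictD U.ι).obj K.obj, DerivedOX.CompactUnit.isQCohD_restrictD _ K.property⟩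
  haveI : IsAffine (U : Scheme.{u}) := hU
  haveI : IsIso (Gen43.Restrict.unit U.ι K.obj) := isIso_unit_of_isLoc hU.isCompact hloc K.property
  let eK : (pushU U).obj L ≅ K :=
    (ObjectProperty.fullyFaithfulι _).preimageIso (asIso (Gen43.Restrict.unit U.ι K.obj)).symm
  let A := (a.obj ((pushU U).obj L)).obj
  suffices hA : Van (f ⁻¹ᵁ V) A from hA.of_iso ((ObjectProperty.ι _).mapIso (a.mapIso eK))
  let W := f ⁻¹ᵁ U
  have hW : IsCompact (W : Set X) :=
    (quasiCompact_f f).1 _ U.2 hU.isCompact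
  haveI := DerivedOX.Exists.hasRpush W.ι
  haveI : IsIso (Gen43.Restrict.unit W.ι A) :=
    isIso_unit_of_isLoc hW (isLoc_a f hf adj (isLoc_push L.obj)) (a.obj _).property
  refine Van.of_iso ?_ (asIso (Gen43.Restrict.unit W.ι A)).symm
  refine Gen43.Extend.van_push W (f ⁻¹ᵁ V) fun i x hx => ?_
  have hxV : (f ∣_ U) x ∈ U.ι ⁻¹ᵁ V := by
    change U.ι ((f ∣_ U) x) ∈ V
    rw [← Scheme.Hom.comp_apply, morphismRestrict_ι]
    exact hx
  have hLV : Van (U.ι ⁻¹ᵁ V) L.obj := Gen43.Extend.van_preimage (hv.mono inf_le_right)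
  obtain ⟨_, ⟨_, ⟨s, rfl⟩, rfl⟩, hxs, hsV⟩ := (isBasis_basicOpen (U : Scheme.{u})).exists_subset_of_mem_open hxV
    (U.ι ⁻¹ᵁ V).isOpen
  refine van_basicOpen f hf adj hcop hU L s (hLV.mono hsV) i x ?_
  rw [← Scheme.preimage_basicOpen_top]
  exact hxs

include adj hcop in
/-- `a` respects supports. -/
theorem van_a {V : Y.Opens} (K : DCoh.DQCoh Y) (hv : Van V K.obj) :
    Van (f ⁻¹ᵁ V) (a.obj K).obj := by
  haveI := additive_a f hf adj
  letI := adj.rightAdjointCommShift ℤ
  haveI := adj.commShift_of_leftAdjoint ℤ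
  haveI : a.IsTriangulated := adj.isTriangulated_rightAdjoint
  suffices ∀ S : Y.Opens, IsCompact (S : Set Y) → ∀ K : DCoh.DQCoh Y, IsLoc S K.obj → Van V K.obj →
      Van (f ⁻¹ᵁ V) (a.obj K).obj from
    this ⊤ isCompact_univ K (fun F _ hW φ => (isZero_of_van_top hW).eq_of_src _ _) hv
  intro S hS
  refine compact_open_induction_on (P := fun S : Y.Opens => ∀ K : DCoh.DQCoh Y, IsLoc S K.obj →
    Van V K.obj → Van (f ⁻¹ᵁ V) (a.obj K).obj) S hS ?_ ?_
  · intro K hK _
    have hz : IsZero K.obj := isZero_of_isLoc hK K.property (van_bot _)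
    exact van_of_isZero ((DCoh.restrictD _).map_isZero ((ObjectProperty.ι _).map_isZero
      (a.map_isZero ((IsZero.iff_id_eq_zero _).2 (ObjectProperty.hom_ext _ (hz.eq_of_src _ _))))))
  · intro S hS U ih K hK hKV
    have hU : IsAffineOpen U.1 := U.2
    haveI := DerivedOX.Exists.hasRpush (U.1).ι
    haveI := quasiCompact_ι hU.isCompact
    let L : DCoh.DQCoh ((U.1 : Y.Opens) : Scheme.{u}) :=
      ⟨(DCoh.restrictD (U.1).ι).obj K.obj, DerivedOX.CompactUnit.isQCohD_restrictD _ K.property⟩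
    let M := (pushU U.1).obj L
    have hMV : Van V M.obj := Gen43.Extend.van_push U.1 V (Gen43.Extend.van_preimage (hKV.mono inf_le_right))
    obtain ⟨C, g, d, hT⟩ := distinguished_cocone_triangle
      (ObjectProperty.homMk (Gen43.Restrict.unit (U.1).ι K.obj) : K ⟶ M)
    have hT' := (ObjectProperty.ι (DCoh.IsQCohD (X := Y))).map_distinguished _ hT
    have hMloc : IsLoc U.1 M.obj := isLoc_push L.obj
    have hCloc : IsLoc (S ⊔ U.1) C.obj :=
      isLoc₃ hT' hK (hMloc.mono le_sup_right)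
    have hCV : Van V C.obj := van₃ hT' hKV hMV
    have hCU : Van U.1 C.obj := (isIso_restrict_iff hT').1 (isIso_restrict_unit (U.1).ι K.obj)
    have hC : IsLoc S C.obj := by
      haveI := DerivedOX.Exists.hasRpush S.ι
      haveI := quasiCompact_ι hS
      haveI := Gen43.Extend.isIso_restrict_unit_of_van (S := U.1) (V := S) (W := S ⊔ U.1)
        (sup_comm S U.1).le hCU
      haveI := isIso_of_isLoc (W := S ⊔ U.1) (Gen43.Restrict.unit S.ι C.obj) hCloc
        ((isLoc_push _).mono le_sup_left) C.property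
        (DerivedOX.RpushQCoh.isQCohD_Rpush S.ι _ (DerivedOX.CompactUnit.isQCohD_restrictD _ C.property))
      exact isLoc_of_iso (asIso (Gen43.Restrict.unit S.ι C.obj)).symm (isLoc_push _)
    exact van₁ ((ObjectProperty.ι (DCoh.IsQCohD (X := X))).map_distinguished _
      (a.map_distinguished _ hT)) (van_affine f hf adj hcop hU M hMloc hMV) (ih C hC hCV)

end Groth.Agent.Lib.RightAdjTensor.Supports
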