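import Groth.Agent.Lib.RightAdjTensor.Supports
import Groth.Agent.Lib.SchColim29.CohPush

/-!
# The right adjoint of `Rf_*` respects supports of bounded below objects
-/

set_option autoImplicit false
set_option linter.unusedSectionVars false
set_option linter.style.haveILetI false

universe u

open CategoryTheory Limits AlgebraicGeometry Pretriangulated

attribute [local instance] HasDerivedCategory.standard

namespace Groth.Agent.Lib.RightAdjTensor.SupportsBdd

open Groth.Agent.Lib Gen43.Restrict Loc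
open Supports (isLoc_a quasiCompact_f pushU preservesColimit_pushU isIso_tel_of_map)

variable {X Y : Scheme.{u}}

lemma isGE_of_iso {A B : DCoh.D Y} {c : ℤ} (h : A.IsGE c) (e : A ≅ B) : B.IsGE c :=
  (DerivedCategory.isGE_iff _ _).2 fun i hi => ((DerivedCategory.isGE_iff _ _).1 h i hi).of_iso
    ((DerivedCategory.homologyFunctor Y.Modules i).mapIso e.symm)

lemma isGE₃ (T : Triangle (DCoh.D Y)) (hT : T ∈ distTriang (DCoh.D Y)) {c : ℤ}
    (h₁ : T.obj₁.IsGE c) (h₂ : T.obj₂.IsGE c) : T.obj₃.IsGE (c - 1) := by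
  let t := DerivedCategory.TStructure.t (C := Y.Modules)
  haveI : t.IsGE T.obj₁ c := h₁
  haveI : t.IsGE T.obj₂ c := h₂
  exact t.isGE₂ T.rotate (rot_of_distTriang _ hT) (c - 1) (t.isGE_of_ge T.obj₂ (c - 1) c)
    (t.isGE_shift T.obj₁ c 1 (c - 1))

lemma isGE_push [IsLocallyNoetherian Y] (U : Y.Opens) [DCoh.HasRpush U.ι] {K : DCoh.D Y} {c : ℤ}
    (h : K.IsGE c) : ((DCoh.Rpush U.ι).obj ((DCoh.restrictD U.ι).obj K)).IsGE c := by
  haveI : ((DCoh.restrictD U.ι).obj K).IsGE c := (DerivedCategory.isGE_iff _ _).2 fun i hi =>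
    ((Scheme.Modules.restrictFunctor U.ι).map_isZero
      ((DerivedCategory.isGE_iff _ _).1 h i hi)).of_iso (Perfect.Coherent.homologyIso U.ι K i)
  exact SchColim29.CohPush.Rpush_isGE U.ι _ c

variable (f : X ⟶ Y) [DCoh.HasRpush f] (hf : DCoh.RpushPreservesQCoh f)
  {a : DCoh.DQCoh Y ⥤ DCoh.DQCoh X} (adj : DCoh.RpushQ f hf ⊣ a)
variable [CompactSpace X] [QuasiSeparatedSpace X] [CompactSpace Y] [QuasiSeparatedSpace Y]
  [IsLocallyNoetherian Y]

variable (hcop : ∀ (M : DCoh.DQCoh Y) (c : ℤ), M.obj.IsGE c →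
  PreservesColimit (Discrete.functor fun _ : Tel.J.{u} => M) a)

include adj hcop in
/-- The case of an affine open and a basic open of it. -/
theorem van_basicOpen {U : Y.Opens} (hU : IsAffineOpen U) [DCoh.HasRpush U.ι] [QuasiCompact U.ι]
    (L : DCoh.DQCoh (U : Scheme.{u})) (hL : ∃ c, ((pushU U).obj L).obj.IsGE c) (s : Γ((U : Scheme.{u}), ⊤))
    (hs : Van ((U : Scheme.{u}).basicOpen s) L.obj) :
    Van (((f ⁻¹ᵁ U : X.Opens) : Scheme.{u}).basicOpen ((f ∣_ U).appTop s))
      ((DCoh.restrictD (f ⁻¹ᵁ U).ι).obj (a.obj ((pushU U).obj L)).obj) := by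
  haveI := additive_a f hf adj
  haveI : IsAffine (U : Scheme.{u}) := hU
  haveI := DerivedOX.Exists.hasRpush (f ∣_ U)
  let W := f ⁻¹ᵁ U
  have hW : IsCompact (W : Set X) :=
    (quasiCompact_f f).1 _ U.2 hU.isCompact
  haveI := quasiCompact_ι hW
  haveI := DerivedOX.Exists.hasRpush W.ι
  let t := (f ∣_ U).appTop s
  let Ω := (W : Scheme.{u}).basicOpen t
  let M := (pushU U).obj L
  let A := (a.obj M).obj
  let jA := (DCoh.restrictD W.ι).obj A
  -- the endomorphism
  let φ₀ : L ⟶ L := ObjectProperty.homMk (Tel.mulD s L.obj)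
  let φ₁ := (pushU U).map φ₀
  let φ₂ := a.map φ₁
  -- the telescope stays invertible
  haveI := DerivedOX.CompactUnit.hasCoproduct Tel.J.{u} fun _ => L.obj
  haveI : IsIso (Tel.tel.{u} (Tel.mulD s L.obj)) := Tel.isIso_tel_sD s L.obj L.property hs
  haveI : HasCoproduct fun _ : Tel.J.{u} =>
      (ObjectProperty.ι (DCoh.IsQCohD (X := (U : Scheme.{u})))).obj L :=
    DerivedOX.CompactUnit.hasCoproduct Tel.J.{u} fun _ => L.obj
  haveI : IsIso (Tel.tel.{u} ((ObjectProperty.ι (DCoh.IsQCohD (X := (U : Scheme.{u})))).map φ₀)) :=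
    (inferInstance : IsIso (Tel.tel.{u} (Tel.mulD s L.obj)))
  haveI : IsIso (Tel.tel.{u} φ₀) := isIso_tel_of_map (ObjectProperty.ι _) φ₀
  haveI := preservesColimit_pushU U fun _ : Tel.J.{u} => L
  haveI : IsIso (Tel.tel.{u} φ₁) := Tel.isIso_tel_map φ₀ (pushU U)
  haveI : PreservesColimit (Discrete.functor fun _ : Tel.J.{u} => (pushU U).obj L) a :=
    hL.elim fun c hc => hcop _ c hc
  haveI : IsIso (Tel.tel.{u} φ₂) := Tel.isIso_tel_map φ₁ a
  let F := ObjectProperty.ι (DCoh.IsQCohD (X := X))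
  haveI : HasCoproduct fun _ : Tel.J.{u} => F.obj (a.obj M) :=
    DerivedOX.CompactUnit.hasCoproduct Tel.J.{u} fun _ => A
  haveI : IsIso (Tel.tel.{u} (F.map φ₂)) := Tel.isIso_tel_map φ₂ F
  haveI := DerivedOX.CompactUnit.preservesColimits_restrictD W.ι Tel.J.{u}
  haveI := DerivedOX.CompactUnit.preservesColimits_restrictD Ω.ι Tel.J.{u}
  haveI := DerivedOX.CompactUnit.hasCoproduct Tel.J.{u} fun _ => (DCoh.restrictD W.ι).obj (F.obj (a.obj M))
  haveI : IsIso (Tel.tel.{u} ((DCoh.restrictD W.ι).map (F.map φ₂))) :=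
    Tel.isIso_tel_map (F.map φ₂) (DCoh.restrictD W.ι)
  haveI := DerivedOX.CompactUnit.hasCoproduct Tel.J.{u} fun _ =>
    (DCoh.restrictD Ω.ι).obj ((DCoh.restrictD W.ι).obj (F.obj (a.obj M)))
  haveI : IsIso (Tel.tel.{u} ((DCoh.restrictD Ω.ι).map ((DCoh.restrictD W.ι).map (F.map φ₂)))) :=
    Tel.isIso_tel_map ((DCoh.restrictD W.ι).map (F.map φ₂)) (DCoh.restrictD Ω.ι)
  -- `a` of multiplication by `s` is multiplication by `t`
  have hφ : (DCoh.restrictD W.ι).map φ₂.hom = Tel.mulD t jA := by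
    let r := DCoh.restrictD W.ι
    let R := DCoh.Rpush W.ι
    let adjW := DerivedOX.OpenImm.restrictPushAdj W.ι
    let u := Gen43.Restrict.unit W.ι A
    haveI : IsIso u := isIso_unit_of_isLoc hW (isLoc_a f hf adj (isLoc_push L.obj)) (a.obj M).property
    let χ : A ⟶ A := u ≫ R.map (Tel.mulD t jA) ≫ inv u
    have hc : r.map u ≫ adjW.counit.app jA = 𝟙 jA := adjW.left_triangle_components A
    have hχ : r.map χ = Tel.mulD t jA := by
      have h1 : r.map χ ≫ r.map u = r.map u ≫ r.map (R.map (Tel.mulD t jA)) := by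
        rw [← r.map_comp, ← r.map_comp]
        simp [χ]
      have h2 : r.map (R.map (Tel.mulD t jA)) ≫ adjW.counit.app jA =
          adjW.counit.app jA ≫ Tel.mulD t jA := adjW.counit.naturality (Tel.mulD t jA)
      calc r.map χ = r.map χ ≫ r.map u ≫ adjW.counit.app jA := by rw [hc, Category.comp_id]
        _ = r.map u ≫ adjW.counit.app jA ≫ Tel.mulD t jA := by
          rw [← Category.assoc, h1, Category.assoc, h2]
        _ = Tel.mulD t jA := by rw [← Category.assoc, hc, Category.id_comp]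
    suffices (ObjectProperty.homMk χ : a.obj M ⟶ a.obj M) = φ₂ by
      rw [← this]; exact hχ
    let e := adj.homEquiv (a.obj M) M
    apply e.symm.injective
    have hR : e.symm φ₂ = adj.counit.app M ≫ φ₁ := by
      refine (adj.homEquiv_counit _ _ _).trans ?_
      exact adj.counit.naturality φ₁
    rw [hR, adj.homEquiv_counit]
    apply ObjectProperty.hom_ext
    let ε := (adj.counit.app M).hom
    change (DCoh.Rpush f).map χ ≫ ε = ε ≫ (DCoh.Rpush U.ι).map (Tel.mulD s L.obj)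
    let adjU := DerivedOX.OpenImm.restrictPushAdj U.ι
    let rU := DCoh.restrictD U.ι
    apply (adjU.homEquiv _ _).symm.injective
    rw [adjU.homEquiv_counit, adjU.homEquiv_counit, rU.map_comp, rU.map_comp, Category.assoc,
      Category.assoc]
    refine Eq.trans ?_ (congrArg (rU.map ε ≫ ·) (adjU.counit.naturality (Tel.mulD s L.obj))).symm
    have hsn : Tel.mulD s (rU.obj ((DCoh.Rpush f).obj A)) ≫ rU.map ε ≫ adjU.counit.app L.obj =
        rU.map ε ≫ adjU.counit.app L.obj ≫ Tel.mulD s L.obj := by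
      have h := (Scalar.sD s).naturality (rU.map ε ≫ adjU.counit.app L.obj)
      exact h.symm.trans (Category.assoc _ _ _)
    refine Eq.trans ?_ hsn
    refine congrArg (· ≫ rU.map ε ≫ adjU.counit.app L.obj) ?_
    let bc := DerivedOX.RestrictRpush.restrictD_Rpush_iso f U
    have hb : rU.map ((DCoh.Rpush f).map χ) ≫ bc.hom.app A =
        bc.hom.app A ≫ (DCoh.Rpush (f ∣_ U)).map (r.map χ) := bc.hom.naturality χ
    rw [hχ] at hb
    have hs' : (DCoh.Rpush (f ∣_ U)).map (Tel.mulD t jA) =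
        Tel.mulD s ((DCoh.Rpush (f ∣_ U)).obj jA) := Scalar.Rpush_sD (f ∣_ U) s jA
    rw [hs'] at hb
    exact (cancel_mono (bc.hom.app A)).1 (hb.trans ((Scalar.sD s).naturality (bc.hom.app A)))
  haveI : IsIso ((DCoh.restrictD Ω.ι).map ((DCoh.restrictD W.ι).map (F.map φ₂))) := by
    change IsIso ((DCoh.restrictD Ω.ι).map ((DCoh.restrictD W.ι).map φ₂.hom))
    rw [hφ]
    exact Scalar.isIso_restrictD_sD Ω.ι t (by rw [Scheme.Opens.opensRange_ι]) jA
  exact van_of_isZero (Tel.isZero_of_tel.{u}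
    ((DCoh.restrictD Ω.ι).map ((DCoh.restrictD W.ι).map (F.map φ₂))))

include adj hcop in
/-- The case of an object pushed forward from an affine open. -/
theorem van_affine {U : Y.Opens} (hU : IsAffineOpen U) {V : Y.Opens} (K : DCoh.DQCoh Y)
    (hb : ∃ c, K.obj.IsGE c) (hloc : IsLoc U K.obj) (hv : Van V K.obj) : Van (f ⁻¹ᵁ V) (a.obj K).obj := by
  haveI := DerivedOX.Exists.hasRpush U.ι
  haveI := quasiCompact_ι hU.isCompact
  let L : DCoh.DQCoh (U : Scheme.{u}) :=
    ⟨(DCoh.restrictD U.ι).obj K.obj, DerivedOX.CompactUnit.isQCohD_restrictD _ K.property⟩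
  haveI : IsAffine (U : Scheme.{u}) := hU
  haveI : IsIso (Gen43.Restrict.unit U.ι K.obj) := isIso_unit_of_isLoc hU.isCompact hloc K.property
  let eK : (pushU U).obj L ≅ K :=
    (ObjectProperty.fullyFaithfulι _).preimageIso (asIso (Gen43.Restrict.unit U.ι K.obj)).symm
  let A := (a.obj ((pushU U).obj L)).obj
  suffices hA : Van (f ⁻¹ᵁ V) A from hA.of_iso ((ObjectProperty.ι _).mapIso (a.mapIso eK))
  let W := f ⁻¹ᵁ U
  have hW : IsCompact (W : Set X) :=
    (quasiCompact_f f).1 _ U.2 hU.isCompact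
  haveI := DerivedOX.Exists.hasRpush W.ι
  haveI : IsIso (Gen43.Restrict.unit W.ι A) :=
    isIso_unit_of_isLoc hW (isLoc_a f hf adj (isLoc_push L.obj)) (a.obj _).property
  refine Van.of_iso ?_ (asIso (Gen43.Restrict.unit W.ι A)).symm
  refine Gen43.Extend.van_push W (f ⁻¹ᵁ V) fun i x hx => ?_
  have hxV : (f ∣_ U) x ∈ U.ι ⁻¹ᵁ V := by
    change U.ι ((f ∣_ U) x) ∈ V
    rw [← Scheme.Hom.comp_apply, morphismRestrict_ι]
    exact hx
  have hLV : Van (U.ι ⁻¹ᵁ V) L.obj := Gen43.Extend.van_preimage (hv.mono inf_le_right)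
  obtain ⟨_, ⟨_, ⟨s, rfl⟩, rfl⟩, hxs, hsV⟩ := (isBasis_basicOpen (U : Scheme.{u})).exists_subset_of_mem_open hxV
    (U.ι ⁻¹ᵁ V).isOpen
  refine van_basicOpen f hf adj hcop hU L
    (hb.imp fun c hc => isGE_of_iso hc ((ObjectProperty.ι _).mapIso eK).symm) s (hLV.mono hsV) i x ?_
  rw [← Scheme.preimage_basicOpen_top]
  exact hxs

include adj hcop in
/-- `a` respects supports. -/
theorem van_a {V : Y.Opens} (K : DCoh.DQCoh Y) (hb : ∃ c, K.obj.IsGE c) (hv : Van V K.obj) :
    Van (f ⁻¹ᵁ V) (a.obj K).obj := by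
  haveI := additive_a f hf adj
  letI := adj.rightAdjointCommShift ℤ
  haveI := adj.commShift_of_leftAdjoint ℤ
  haveI : a.IsTriangulated := adj.isTriangulated_rightAdjoint
  suffices ∀ S : Y.Opens, IsCompact (S : Set Y) → ∀ K : DCoh.DQCoh Y, (∃ c, K.obj.IsGE c) →
      IsLoc S K.obj → Van V K.obj → Van (f ⁻¹ᵁ V) (a.obj K).obj from
    this ⊤ isCompact_univ K hb (fun F _ hW φ => (isZero_of_van_top hW).eq_of_src _ _) hv
  intro S hS
  refine compact_open_induction_on (P := fun S : Y.Opens => ∀ K : DCoh.DQCoh Y, (∃ c, K.obj.IsGE c) →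
    IsLoc S K.obj → Van V K.obj → Van (f ⁻¹ᵁ V) (a.obj K).obj) S hS ?_ ?_
  · intro K _ hK _
    have hz : IsZero K.obj := isZero_of_isLoc hK K.property (van_bot _)
    exact van_of_isZero ((DCoh.restrictD _).map_isZero ((ObjectProperty.ι _).map_isZero
      (a.map_isZero ((IsZero.iff_id_eq_zero _).2 (ObjectProperty.hom_ext _ (hz.eq_of_src _ _))))))
  · intro S hS U ih K hKb hK hKV
    have hU : IsAffineOpen U.1 := U.2
    haveI := DerivedOX.Exists.hasRpush (U.1).ι
    haveI := quasiCompact_ι hU.isCompact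
    let L : DCoh.DQCoh ((U.1 : Y.Opens) : Scheme.{u}) :=
      ⟨(DCoh.restrictD (U.1).ι).obj K.obj, DerivedOX.CompactUnit.isQCohD_restrictD _ K.property⟩
    let M := (pushU U.1).obj L
    have hMV : Van V M.obj := Gen43.Extend.van_push U.1 V (Gen43.Extend.van_preimage (hKV.mono inf_le_right))
    obtain ⟨C, g, d, hT⟩ := distinguished_cocone_triangle
      (ObjectProperty.homMk (Gen43.Restrict.unit (U.1).ι K.obj) : K ⟶ M)
    have hT' := (ObjectProperty.ι (DCoh.IsQCohD (X := Y))).map_distinguished _ hT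
    have hMloc : IsLoc U.1 M.obj := isLoc_push L.obj
    have hCloc : IsLoc (S ⊔ U.1) C.obj :=
      isLoc₃ hT' hK (hMloc.mono le_sup_right)
    have hCV : Van V C.obj := van₃ hT' hKV hMV
    have hCU : Van U.1 C.obj := (isIso_restrict_iff hT').1 (isIso_restrict_unit (U.1).ι K.obj)
    have hC : IsLoc S C.obj := by
      haveI := DerivedOX.Exists.hasRpush S.ι
      haveI := quasiCompact_ι hS
      haveI := Gen43.Extend.isIso_restrict_unit_of_van (S := U.1) (V := S) (W := S ⊔ U.1)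
        (sup_comm S U.1).le hCU
      haveI := isIso_of_isLoc (W := S ⊔ U.1) (Gen43.Restrict.unit S.ι C.obj) hCloc
        ((isLoc_push _).mono le_sup_left) C.property
        (DerivedOX.RpushQCoh.isQCohD_Rpush S.ι _ (DerivedOX.CompactUnit.isQCohD_restrictD _ C.property))
      exact isLoc_of_iso (asIso (Gen43.Restrict.unit S.ι C.obj)).symm (isLoc_push _)
    obtain ⟨c, hc⟩ := hKb
    haveI : M.obj.IsGE c := isGE_push U.1 hc
    exact van₁ ((ObjectProperty.ι (DCoh.IsQCohD (X := X))).map_distinguished _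
      (a.map_distinguished _ hT)) (van_affine f hf adj hcop hU M ⟨c, inferInstance⟩ hMloc hMV)
      (ih C ⟨c - 1, isGE₃ _ hT' hc (show M.obj.IsGE c from inferInstance)⟩ hC hCV)

end Groth.Agent.Lib.RightAdjTensor.SupportsBdd
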