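import Groth.Agent.Lib.RightAdjTensor.Coprod
import Groth.Agent.Lib.DerivedOX.RpushTriangulated

/-!
# Shifts of the universal map `Rf_* a(O) ⟶ O`
-/

set_option autoImplicit false
set_option linter.unusedSectionVars false
set_option linter.style.haveILetI false

universe u

open CategoryTheory Limits AlgebraicGeometry

attribute [local instance] HasDerivedCategory.standard

namespace Groth.Agent.Lib.RightAdjTensor.Universal

open Groth.Agent.Lib

variable {X Y : Scheme.{u}} (f : X ⟶ Y) [DCoh.HasRpush f] (hf : DCoh.RpushPreservesQCoh f)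
  {a : DCoh.DQCoh Y ⥤ DCoh.DQCoh X} (adj : DCoh.RpushQ f hf ⊣ a)

/-- Transport of bijectivity along equivalences. -/
lemma bij_transport {α α' β β' : Type*} (e : α ≃ α') (e' : β ≃ β') {f : α → β} {f' : α' → β'}
    (h : ∀ a, e' (f a) = f' (e a)) (hf : Function.Bijective f) : Function.Bijective f' := by
  have : f' = e' ∘ f ∘ e.symm := funext fun a => by simp [h]
  exact this ▸ e'.bijective.comp (hf.comp e.symm.bijective)

/-- `g ↦ Rf_* g ≫ ε` is bijective. -/
theorem bij_zero (O : DCoh.DQCoh Y) {N : DCoh.D X} (hN : DCoh.IsQCohD N) :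
    Function.Bijective fun h : N ⟶ (a.obj O).obj =>
      (DCoh.Rpush f).map h ≫ (adj.counit.app O).hom := by
  let N' : DCoh.DQCoh X := ⟨N, hN⟩
  let F₁ := (ObjectProperty.fullyFaithfulι (DCoh.IsQCohD (X := X))).homEquiv (X := N') (Y := a.obj O)
  let F₂ := (ObjectProperty.fullyFaithfulι (DCoh.IsQCohD (X := Y))).homEquiv
    (X := (DCoh.RpushQ f hf).obj N') (Y := O)
  refine bij_transport F₁ F₂ (fun h => ?_) (adj.homEquiv N' O).symm.bijective
  rw [adj.homEquiv_counit]
  rfl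

/-- Its shifts are universal. -/
theorem bij_shift (O : DCoh.DQCoh Y) (n : ℤ) {M : DCoh.D X} (hM : DCoh.IsQCohD M) :
    Function.Bijective fun g : M ⟶ ((a.obj O).obj)⟦n⟧ =>
      (DCoh.Rpush f).map g ≫ ((DCoh.Rpush f).commShiftIso n).hom.app (a.obj O).obj ≫
        (adj.counit.app O).hom⟦n⟧' := by
  let R := DCoh.Rpush f
  let N := M⟦-n⟧
  let e : N⟦n⟧ ≅ M := (shiftFunctorCompIsoId (DCoh.D X) (-n) n (by omega)).app M
  let e' : (R.obj N)⟦n⟧ ≅ R.obj M := ((R.commShiftIso n).app N).symm ≪≫ R.mapIso e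
  let E₁ := ((Functor.FullyFaithful.ofFullyFaithful (shiftFunctor (DCoh.D X) n)).homEquiv
    (X := N) (Y := (a.obj O).obj)).trans (e.homCongr (Iso.refl _))
  let E₂ := ((Functor.FullyFaithful.ofFullyFaithful (shiftFunctor (DCoh.D Y) n)).homEquiv
    (X := R.obj N) (Y := O.obj)).trans (e'.homCongr (Iso.refl _))
  refine bij_transport E₁ E₂ (fun h => ?_)
    (bij_zero f hf adj O (DerivedOX.CompactUnit.qcD_shift M (-n) hM))
  let c := (R.commShiftIso n).hom
  have hc : R.map (h⟦n⟧') ≫ c.app (a.obj O).obj = c.app N ≫ (R.map h)⟦n⟧' := c.naturality h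
  change (R.map e.inv ≫ c.app N) ≫ (R.map h ≫ (adj.counit.app O).hom)⟦n⟧' ≫ 𝟙 _ =
    R.map (e.inv ≫ h⟦n⟧' ≫ 𝟙 _) ≫ c.app _ ≫ (adj.counit.app O).hom⟦n⟧'
  simp only [Category.comp_id, Functor.map_comp, Category.assoc]
  rw [reassoc_of% hc]

end Groth.Agent.Lib.RightAdjTensor.Universal
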